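import Cfsg.Agent.Lib.SpO.J4.PC0

set_option autoImplicit false
set_option maxRecDepth 100000
set_option Elab.async false
set_option linter.unusedSectionVars false

namespace Cfsg.Agent.SpO.J4.P
open Cfsg.Agent.CG Cfsg.Agent.SpO

theorem tabOK : TabOK 2048 16 app 6 62 inv slp where
  w_pos := by decide
  base := allRange_of_allL (l := [0,1,2,3,4,5]) (by decide +kernel) (allL_cons (allLt_of_allRange Pc0) (allL_cons (allLt_of_allRange Pc1) (allL_cons (allLt_of_allRange Pc2) (allL_cons (allLt_of_allRange Pc3) (allL_cons (allLt_of_allRange Pc4) (allL_cons (allLt_of_allRange Pc5) (allL_nil _)))))))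
  defs := allRange_of_allL (l := [6,7,8,9,10,11,12,13,14,15,16,17,18,19,20,21,22,23,24,25,26,27,28,29,30,31,32,33,34,35,36,37,38,39,40,41,42,43,44,45,46,47,48,49,50,51,52,53,54,55,56,57,58,59,60,61]) (by decide +kernel) (allL_cons Pc6 (allL_cons Pc7 (allL_cons Pc8 (allL_cons Pc9 (allL_cons Pc10 (allL_cons Pc11 (allL_cons Pc12 (allL_cons Pc13 (allL_cons Pc14 (allL_cons Pc15 (allL_cons Pc16 (allL_cons Pc17 (allL_cons Pc18 (allL_cons Pc19 (allL_cons Pc20 (allL_cons Pc21 (allL_cons Pc22 (allL_cons Pc23 (allL_cons Pc24 (allL_cons Pc25 (allL_cons Pc26 (allL_cons Pc27 (allL_cons Pc28 (allL_cons Pc29 (allL_cons Pc30 (allL_cons Pc31 (allL_cons Pc32 (allL_cons Pc33 (allL_cons Pc34 (allL_cons Pc35 (allL_cons Pc36 (allL_cons Pc37 (allL_cons Pc38 (allL_cons Pc39 (allL_cons Pc40 (allL_cons Pc41 (allL_cons Pc42 (allL_cons Pc43 (allL_cons Pc44 (allL_cons Pc45 (allL_cons Pc46 (allL_cons Pc47 (allL_cons Pc48 (allL_cons Pc49 (allL_cons Pc50 (allL_cons Pc51 (allL_cons Pc52 (allL_cons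 Pc53 (allL_cons Pc54 (allL_cons Pc55 (allL_cons Pc56 (allL_cons Pc57 (allL_cons Pc58 (allL_cons Pc59 (allL_cons Pc60 (allL_cons Pc61 (allL_nil _)))))))))))))))))))))))))))))))))))))))))))))))))))))))))
  lt := by decide +kernel
  triv := appT_triv (by decide +kernel)
  trivk := Pc62

/-- The group generated by the basic tables. -/
noncomputable abbrev PG : Subgroup (Equiv.Perm (Fin 2048)) := tabGroup 2048 16 app 6

noncomputable def act : Act PG (Fin 2048) := tabOK.act

theorem chain : ChainOK act mc [] :=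
  chainOK_of_chk act mc [] (by simp) (okc_of_okcb Pc71) Pc72
  (allL_cons Pc63 (allL_cons Pc64 (allL_cons Pc65 (allL_cons Pc66 (allL_cons Pc67 (allL_cons Pc68 (allL_cons Pc69 (allL_cons Pc70 (allL_nil _)))))))))

theorem prod_mc : prodN mc = 501397585920 := by decide +kernel

end Cfsg.Agent.SpO.J4.P
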