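import Cfsg.Agent.Lib.SpO.J4.Mod
import Cfsg.Agent.Lib.SpO.J4.PMain
import Cfsg.Agent.Lib.Grp.M24.Out

/-! The Janko group `J₄`: the stabiliser of a vector as a permutation group on 2048 points. -/

set_option autoImplicit false
set_option maxRecDepth 100000

namespace Cfsg.Agent.SpO.J4
open Cfsg.Agent.CG Cfsg.Agent.DC Cfsg.Agent.TCX Cfsg.Agent.Id Matrix

abbrev PL : Type := P.PG

/-- The bits of a number. -/
def bv (s : ℕ) : Fin 12 → ZMod 2 := fun k => ((s.testBit k).toNat : ZMod 2)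

theorem bv_dot {s : ℕ} (hs : s < 4096) (n : ℕ) : bv s ⬝ᵥ bv n = (M.pb (s &&& n) : ZMod 2) := by
  have h1 : ∀ g : ℕ → ℕ, ((((List.range 12).map g).sum : ℕ) : ZMod 2) = ∑ k : Fin 12, (g k : ZMod 2) := fun g => by
    simp [List.range_succ, Fin.sum_univ_succ]
  rw [(beq_iff _ _).1 ((allLt_iff _ _).1 M.pbc _ (Nat.and_le_left.trans_lt hs)), ZMod.natCast_mod, M.pc, h1]
  refine Finset.sum_congr rfl fun k _ => ?_
  simp only [bv, Nat.testBit_and]
  cases s.testBit k <;> cases n.testBit k <;> simp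

theorem bv_inj {s n : ℕ} (hs : s < 4096) (hn : n < 4096) (h : bv s = bv n) : s = n := Nat.eq_of_testBit_eq fun k => by
  by_cases hk : k < 12
  · have := congrFun h ⟨k, hk⟩
    simp only [bv] at this
    revert this
    cases s.testBit k <;> cases n.testBit k <;> decide
  · have : 2 ^ 12 ≤ 2 ^ k := Nat.pow_le_pow_right (by norm_num) (by omega)
    rw [Nat.testBit_lt_two_pow (by omega), Nat.testBit_lt_two_pow (by omega)]

/-- The affine functions. -/
noncomputable def Φ (w : Fin 12 → ZMod 2) : V := fun j => w ⬝ᵥ bv (2 * M.inf j + 1)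

theorem Φ_add (v w : Fin 12 → ZMod 2) : Φ (v + w) = Φ v + Φ w := funext fun _ => add_dotProduct _ _ _

theorem Φ_inj {v w : Fin 12 → ZMod 2} (h : Φ v = Φ w) : v = w := by
  have h0 := congrFun h 0
  simp only [Φ, show bv (2 * M.inf (0 : Fin 112) + 1) = Pi.single 0 1 by decide +kernel, dotProduct_single_one] at h0
  funext k
  rcases (show ∀ k : Fin 12, k = 0 ∨ ∃ j : Fin 112, bv (2 * M.inf j + 1) = Pi.single 0 1 + Pi.single k 1 by
    decide +kernel) k with rfl | ⟨j, e⟩
  · exact h0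
  · have := congrFun h j
    simpa only [Φ, e, dotProduct_add, dotProduct_single_one, h0, add_right_inj] using this

theorem pt_Φ {x s : ℕ} (hs : s < 4096) (h : M.wOK x s = true) : A.pt x = Φ (bv s) := funext fun j => by
  unfold M.wOK at h
  rw [force_eq, allLt_iff] at h
  exact (cpt x j).trans ((congrArg _ ((beq_iff _ _).1 (h j j.2))).trans (bv_dot hs _).symm)

theorem ptm (i : Fin 2048) : P.act.pt (16 * i) = i := ptc_mul' (by norm_num) i

theorem ev_val (w : List ℕ) (i : Fin 2048) : ((ev P.act.gen w • i : Fin 2048) : ℕ) = evp P.app w (16 * i) / 16 := by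
  obtain ⟨j, h2, h3⟩ := P.act.ok_evp w (okc_mul i)
  have h4 := P.act.ev_smul w (okc_mul i)
  rw [ptm, h3, ptm ⟨j, h2⟩] at h4
  rw [h4, show evp P.app w (16 * i) = 16 * j from h3, Nat.mul_div_cancel_left _ (by norm_num)]

theorem gen_val (a : ℕ) (i : Fin 2048) : ((P.act.gen a • i : Fin 2048) : ℕ) = P.app a (16 * i) / 16 :=
  ev_singleton P.act.gen a ▸ ev_val [a] i

/-- The elements acting on the affine functions through a permutation of the points. -/
def Γ0 : Submonoid (G × PL) where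
  carrier := {x | x.1 • u 15 = u 15 ∧ ∀ w, ∃ w', x.1 • Φ w = Φ w' ∧
    ∀ i : Fin 2048, w' ⬝ᵥ bv (2 * (x.2 • i : Fin 2048) + 1) = w ⬝ᵥ bv (2 * i + 1)}
  one_mem' := ⟨one_smul _ _, fun w => ⟨w, one_smul _ _, fun i => by simp⟩⟩
  mul_mem' {x y} hx hy := ⟨by rw [Prod.fst_mul, mul_smul, hy.1, hx.1], fun w => by
    obtain ⟨w1, h1, h2⟩ := hy.2 w
    obtain ⟨w2, h3, h4⟩ := hx.2 w1
    exact ⟨w2, by rw [Prod.fst_mul, mul_smul, h1, h3], fun i => by rw [Prod.snd_mul, mul_smul, h4, h2]⟩⟩

/-- The same as a subgroup. -/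
def Γ : Subgroup (G × PL) where
  toSubmonoid := Γ0
  inv_mem' {x} hx := Submonoid.powers_le.2 hx (mem_powers_iff_mem_zpowers.2 (inv_mem (Subgroup.mem_zpowers x)))

theorem lk_mem {a : ℕ} (ha : a ∈ [0, 1, 2, 5]) (h : M.lkOK a = true) : (l a, P.act.gen a) ∈ Γ := by
  refine ⟨fx ha, fun w => ?_⟩
  induction w using Pi.single_induction with
  | zero => exact ⟨0, by rw [show Φ 0 = 0 from funext fun _ => zero_dotProduct _, smul_zero], by simp⟩
  | add v w hv hw =>
    obtain ⟨v', h1, h2⟩ := hv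
    obtain ⟨w', h3, h4⟩ := hw
    exact ⟨v' + w', by rw [Φ_add, Φ_add, smul_add, h1, h3], fun i => by rw [add_dotProduct, add_dotProduct, h2, h4]⟩
  | single k m =>
    rcases (show ∀ m : ZMod 2, m = 0 ∨ m = 1 by decide) m with rfl | rfl
    · exact ⟨0, by rw [Pi.single_zero, show Φ 0 = 0 from funext fun _ => zero_dotProduct _, smul_zero], by simp⟩
    have e := (allLt_iff _ _).1 h k k.2
    simp only [force_eq, band_eq, blt_iff, allLt_iff, beq_iff] at e
    obtain ⟨e1, e2, e3⟩ := e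
    obtain ⟨e4, e5⟩ := (show ∀ k : Fin 12, 2 ^ k.1 < 4096 ∧ Pi.single k 1 = bv (2 ^ k.1) by decide +kernel) k
    have e6 : k.1 < M.WB.length := k.2.trans_eq (by decide +kernel)
    refine ⟨bv _, ?_, fun i => by rw [e5, bv_dot e1, bv_dot e4, gen_val, e3 i i.2]⟩
    rw [e5, ← pt_Φ e1 e2, ← pt_Φ e4 ((allLt_iff _ _).1 M.wb k k.2), Ablk _ _ okW, nth_eq (List.map _ _),
      List.getD_eq_getElem _ _ (by simpa using e6), List.getElem_map, ← List.getD_eq_getElem _ 0, ← nth_eq]
    exact A.smul_pt a _ (okW _ (nth_mem e6))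

/-- The first projection. -/
noncomputable def p : Γ →* G := (MonoidHom.fst _ _).comp Γ.subtype

/-- The second projection. -/
noncomputable def q : Γ →* PL := (MonoidHom.snd _ _).comp Γ.subtype

theorem q_one {x : Γ} (e : ρ (p x) = 1) : q x = 1 := Subtype.ext (Equiv.ext fun i => by
  have : bv (2 * (q x • i : Fin 2048) + 1) = bv (2 * i + 1) := dotProduct_eq _ _ fun w => by
    obtain ⟨w', h1, h2⟩ := x.2.2 w
    rw [smul_def, show ρ x.1.1 = 1 from e, one_smul] at h1
    rw [dotProduct_comm, dotProduct_comm _ w, ← h2 i, Φ_inj h1]; rfl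
  have := bv_inj (by omega) (by omega) this
  exact Fin.ext (show ((q x • i : Fin 2048) : ℕ) = i by omega))

theorem p_inj : Function.Injective p := (injective_iff_map_eq_one p).2 fun x e =>
  Subtype.ext (Prod.ext e (q_one (by rw [e, map_one])))

/-- The letters common to both groups. -/
noncomputable def okL (w : List ℕ) : Bool := allL (fun a => bor (blt a 3) (band (Nat.ble 5 a) (blt a 16))) w

theorem ev_mem_Γ {w : List ℕ} (h : ∀ a ∈ w, (l a, P.act.gen a) ∈ Γ) : (ev l w, ev P.act.gen w) ∈ Γ := by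
  have := ev_mem (fun a => (l a, P.act.gen a)) h
  rwa [show ev (fun a => (l a, P.act.gen a)) w = (ev l w, ev P.act.gen w) from
    Prod.ext (map_ev (fun a => (l a, P.act.gen a)) (MonoidHom.fst _ _) w)
      (map_ev (fun a => (l a, P.act.gen a)) (MonoidHom.snd _ _) w)] at this

theorem w_mem {w : List ℕ} (h : okL w = true) : (ev l w, ev P.act.gen w) ∈ Γ := ev_mem_Γ fun a ha => by
  have k : ∀ a ∈ [0, 1, 2, 5], (l a, P.act.gen a) ∈ Γ := all_cons (lk_mem (by simp) M.lk0) (all_cons (lk_mem (by simp) M.lk1)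
    (all_cons (lk_mem (by simp) M.lk2) (all_cons (lk_mem (by simp) M.lk5) all_nil)))
  have h1 := (allL_iff _ _).1 h a ha
  rw [bor_eq, band_eq, blt_iff, blt_iff, ble_iff] at h1
  by_cases h2 : 6 ≤ a
  · have h3 := slp6 h2 (by omega)
    rw [l_slp h2 (by omega), show P.act.gen a = ev P.act.gen (P.slp a).2 from
      (P.tabOK.gen_slp h2 (by omega)).trans (if_neg (by simp [h3.1]))]
    exact ev_mem_Γ fun b hb => k b (h3.2 b hb)
  · exact k a (by simp; omega)

theorem gen_one {a : ℕ} (h : oneAll 16 P.app [a] 0 2048 = true) : P.act.gen a = 1 :=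
  (ev_singleton _ a).symm.trans (P.tabOK.ev_eq_one_of_oneAll h)

theorem pl_mem {K : Subgroup PL} (h : ∀ a ∈ [0, 1, 2, 5], P.act.gen a ∈ K) (g : PL) : g ∈ K :=
  mem_cl P.tabOK.cl_eq_top (MonoidHom.id _) (K := K) (fun a ha => by
    rcases (show ∀ a ∈ List.range 6, a = 3 ∨ a = 4 ∨ a ∈ [0, 1, 2, 5] by decide) a ha with rfl | rfl | h1
    · exact (gen_one (a := 3) (by decide +kernel)).symm ▸ one_mem K
    · exact (gen_one (a := 4) (by decide +kernel)).symm ▸ one_mem K
    · exact h a h1) g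

theorem q_surj : Function.Surjective q := pl_mem (K := q.range) fun a ha =>
  ⟨⟨_, w_mem (w := [a]) ((show ∀ a ∈ [0, 1, 2, 5], okL [a] = true by decide +kernel) a ha)⟩, ev_singleton _ a⟩

theorem p_le : p.range ≤ L := by rintro _ ⟨x, rfl⟩; exact mem_L x.2.1

theorem card_Γ : Nat.card Γ ≤ 501397585920 :=
  (Nat.card_congr (MonoidHom.ofInjective p_inj).toEquiv).trans_le ((Subgroup.card_le_of_le p_le).trans card_L)

theorem card_le : Nat.card PL ≤ prodN P.mc := P.prod_mc ▸ (Nat.card_le_card_of_surjective _ q_surj).trans card_Γ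

theorem card_PL : Nat.card PL = 501397585920 := P.prod_mc ▸ P.chain.card_eq card_le

theorem base : P.act.IsBase P.bs :=
  (show bases P.mc = P.bs from (eqL_iff _ _).1 (by decide +kernel)) ▸ P.chain.isBase card_le

theorem q_bij : Function.Bijective q := (Nat.bijective_iff_surjective_and_card q).2
  ⟨q_surj, le_antisymm (card_PL ▸ card_Γ) (Nat.card_le_card_of_surjective _ q_surj)⟩

/-- The embedding of the permutation group. -/
noncomputable def j : PL →* G := p.comp (MulEquiv.ofBijective q q_bij).symm.toMonoidHom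

theorem jq (x : Γ) : j (q x) = p x := congrArg p ((MulEquiv.ofBijective q q_bij).symm_apply_apply x)

theorem j_inj : Function.Injective j := p_inj.comp (MulEquiv.ofBijective q q_bij).symm.injective

theorem jw {w : List ℕ} (h : okL w = true) : j (ev P.act.gen w) = ev l w := jq ⟨_, w_mem h⟩

theorem jl {a : ℕ} (h : okL [a] = true) : j (P.act.gen a) = l a := by simpa using jw h

theorem j_fix (x : PL) : j x • u 15 = u 15 := by
  obtain ⟨y, rfl⟩ := q_surj x
  rw [jq]; exact y.2.1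

theorem mem_j {g : G} (h : g • u 15 = u 15) : ∃ x, j x = g :=
  L_le (K := j.range) (fun a ha => ⟨_, jl ((show ∀ a ∈ [0, 1, 2, 5], okL [a] = true by decide +kernel) a ha)⟩) (mem_L h)

theorem ρ_inj : Function.Injective ρ := (injective_iff_map_eq_one ρ).2 fun g e => by
  obtain ⟨x, rfl⟩ := mem_j (g := g) (by rw [smul_def, e, one_smul])
  obtain ⟨y, rfl⟩ := q_surj x
  rw [q_one (jq y ▸ e), map_one]

theorem geq {v w : List ℕ} (h : eqB M.mw M.bas v w = true) : ev l v = ev l w := ρ_inj (by rw [ρw, ρw, meq h])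

theorem peq {v w : List ℕ} (h : eqW P.app P.bs v w = true) : ev P.act.gen v = ev P.act.gen w := base.ev_eq h

theorem hok (x : ℕ) : P.act.ok x ↔ okc 2048 16 x := Iff.rfl

theorem happ : P.act.app = P.app := rfl

theorem fixm {S F : List ℕ} (e : fixAll P.app S F 16 0 2048 = true) {i : Fin 2048} (h : ∀ a ∈ S, P.act.gen a • i = i) :
    ∃ x ∈ F, i = P.act.pt x := fix_mem (A := P.act) (fun _ => Iff.rfl) (act_surj P.tabOK) e h

theorem pt0 : P.act.pt 0 = 0 := ptm 0

theorem ev0 (w : List ℕ) : ev P.act.gen w • (0 : Fin 2048) = P.act.pt (evp P.app w 0) :=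
  pt0 ▸ P.act.ev_smul w ⟨0, by norm_num, rfl⟩

theorem q_top : cl CG.M24.act.gen (List.range 3) = ⊤ := CG.M24.tabOK.cl_eq_top

theorem qeq {v w : List ℕ} (h : eqW CG.M24.app CG.M24.bs v w = true) : ev CG.M24.act.gen v = ev CG.M24.act.gen w :=
  CG.M24.base.ev_eq h

attribute [irreducible] j

end Cfsg.Agent.SpO.J4
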