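import Cfsg.Agent.Lib.SpO.J4.MDef
import Cfsg.Agent.Lib.Grp.M24p.Defs
import Cfsg.Agent.Lib.DC.J4T.Defs

set_option autoImplicit false
set_option maxRecDepth 100000
set_option Elab.async false

namespace Cfsg.Agent.SpO.J4.M
open Cfsg.Agent.CG Cfsg.Agent.Id

theorem r1 : allL one (M24p.tcR.take 5) = true := by decide +kernel
theorem r2 : allL one (M24p.tcR.drop 5) = true := by decide +kernel
theorem r3 : allL (fun v => one (v.map (tm 3))) ((DC.J4T.rels.map Prod.fst).take 4) = true := by decide +kernel
theorem r4 : allL (fun v => one (v.map (tm 3))) ((DC.J4T.rels.map Prod.fst).drop 4) = true := by decide +kernel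
theorem e0 : eqB mw bas eW [5] = true := by decide +kernel
theorem e1 : allRange (fun a => eqB mw bas (P.slp a).2 [a]) 6 10 = true := by decide +kernel

end Cfsg.Agent.SpO.J4.M
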