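import Cfsg.Agent.Lib.SpO.J4.MDef

set_option autoImplicit false
set_option maxRecDepth 100000
set_option Elab.async false

namespace Cfsg.Agent.SpO.J4.M
open Cfsg.Agent.CG Cfsg.Agent.Id

noncomputable abbrev kOK (i : ℕ) : Bool := eqB mw bas [3, i + 7] (app2 (nth P.kw [] i) [3])
noncomputable abbrev yOK (i : ℕ) : Bool := eqL (mw (nth P.kw2 [] i) L17) L17
noncomputable abbrev cOK (i : ℕ) : Bool := bor (eqL (nth cwL [] i) []) (neB mw (u 15) (nth cwL [] i) [])

theorem kk0 : allRange kOK 0 3 = true := by decide +kernel
theorem kk1 : allRange kOK 3 3 = true := by decide +kernel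
theorem kk2 : allRange kOK 6 3 = true := by decide +kernel
theorem tx : band (eqB mw bas [3, 0] [0, 3]) (band (eqB mw bas (3 :: P.w1) (app2 P.w1 [3])) (one [3, 3])) = true := by
  decide +kernel
theorem y0 : yOK 0 = true := by decide +kernel
theorem y1 : yOK 1 = true := by decide +kernel
theorem y2 : yOK 2 = true := by decide +kernel
theorem y3 : yOK 3 = true := by decide +kernel
theorem y4 : yOK 4 = true := by decide +kernel
theorem y5 : yOK 5 = true := by decide +kernel
theorem y6 : yOK 6 = true := by decide +kernel
theorem y7 : yOK 7 = true := by decide +kernel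
theorem y8 : yOK 8 = true := by decide +kernel
theorem cv0 : allRange cOK 0 4 = true := by decide +kernel
theorem cv1 : allRange cOK 4 4 = true := by decide +kernel
theorem cv2 : allRange cOK 8 4 = true := by decide +kernel
theorem cv3 : allRange cOK 12 4 = true := by decide +kernel
theorem cv4 : allRange cOK 16 4 = true := by decide +kernel
theorem cv5 : allRange cOK 20 4 = true := by decide +kernel
theorem fx : allL (fun a => eqL (mw [a] [u 15]) [u 15]) [0, 1, 2, 5] = true := by decide +kernel
theorem fE : allLt (fun c => bor (memL c [0, 15]) (bor (neB mw (u c) [5] []) (neB mw (u c) [6] []))) 16 = true := by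
  decide +kernel
theorem fT : allLt (fun c => bor (memL c [0, 15, 13, 2]) (bor (neB mw (u c) [0] []) (neB mw (u c) P.w1 []))) 16 = true := by
  decide +kernel
theorem t15 : eqL (mw [3] [u 15]) [u 13] = true := by decide +kernel
theorem t2 : eqL (mw [3] [u 2]) [u 2] = true := by decide +kernel

end Cfsg.Agent.SpO.J4.M
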