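import Cfsg.Agent.Lib.SpO.J4.PD0

set_option autoImplicit false
set_option maxRecDepth 100000
set_option Elab.async false
set_option linter.unusedSectionVars false

namespace Cfsg.Agent.SpO.J4.P
open Cfsg.Agent.CG Cfsg.Agent.SpO

noncomputable def tabs : List ℕ := [t0,t1,t2,t3,t4,t5,t6,t7,t8,t9,t10,t11,t12,t13,t14,t15,t16,t17,t18,t19,t20,t21,t22,t23,t24,t25,t26,t27,t28,t29,t30,t31,t32,t33,t34,t35,t36,t37,t38,t39,t40,t41,t42,t43,t44,t45,t46,t47,t48,t49,t50,t51,t52,t53,t54,t55,t56,t57,t58,t59,t60,t61]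
noncomputable abbrev app : ℕ → ℕ → ℕ := appT tabs t62 0xffff
noncomputable def slpL : List (Bool × List ℕ) := [(false,[]),
  (false,[]),
  (false,[]),
  (false,[]),
  (false,[]),
  (false,[]),
  (false,[1,0,5,0,2]),
  (false,[2,0,1,0,5,0,2,0,1]),
  (false,[0,2,0,1,0,5,0,2,0,1,0]),
  (false,[2,0,1,0,2,0,5,0,1,0,2,0,1]),
  (false,[0,2,0,1,0,2,0,5,0,1,0,2,0,1,0]),
  (false,[2,0,1,0,1,0,1,0,5,0,2,0,2,0,2,0,1]),
  (false,[2,0,1,0,1,0,2,0,5,0,1,0,2,0,2,0,1]),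
  (false,[1,0,2,0,2,0,2,0,5,0,1,0,1,0,1,0,2]),
  (false,[0,2,0,1,0,1,0,1,0,5,0,2,0,2,0,2,0,1,0]),
  (false,[0,1,0,2,0,2,0,2,0,5,0,1,0,1,0,1,0,2,0]),
  (false,[0,1]),
  (true,[16]),
  (false,[7,8,11,12,13,15,0]),
  (false,[18,16]),
  (true,[19]),
  (false,[18,20,18,19,18,20,18,19,18,19,18,19,18,20,18,19,18,20,18,19,18,20,18,19,18,20,18,20,18,19,18,19,18,19,18,19,18,19,18,19,18,19,18,20,18,19,18]),
  (false,[19,18,19,18,20,18,20,18,19,18,19,18,19]),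
  (true,[22]),
  (false,[18,20,18,20]),
  (true,[24]),
  (false,[18,24,24]),
  (true,[26]),
  (false,[18,20,26]),
  (true,[28]),
  (false,[25,27,28]),
  (true,[30]),
  (false,[19,27,31,28]),
  (true,[32]),
  (false,[26,24,18,31]),
  (true,[34]),
  (false,[27,27,30,26]),
  (true,[36]),
  (false,[34,33,34]),
  (true,[38]),
  (false,[33,33,37,32]),
  (true,[40]),
  (false,[37,35,33,36,32]),
  (true,[42]),
  (false,[39,42]),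
  (true,[44]),
  (false,[38,42,39]),
  (true,[46]),
  (false,[40,40,39]),
  (false,[39,39,41,43]),
  (true,[49]),
  (false,[48]),
  (false,[45,47]),
  (false,[45,46,45,46]),
  (false,[47,50]),
  (false,[52,54]),
  (false,[52,53,51]),
  (false,[56]),
  (false,[20,30,25,18,37,32,32,32,40,47,44,53,55,57]),
  (true,[58]),
  (false,[30,19,32,35,36,38,38,47,45,51,57]),
  (true,[60])]
noncomputable def slp (a : ℕ) : Bool × List ℕ := nth slpL (false, []) a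
noncomputable def invL : List ℕ := [0,2,1,3,4,5,6,7,8,9,10,11,12,13,14,15,17,16,18,20,19,21,23,22,25,24,27,26,29,28,31,30,33,32,35,34,37,36,39,38,41,40,43,42,45,44,47,46,48,50,49,51,52,53,54,55,56,57,59,58,61,60]
noncomputable def inv (a : ℕ) : ℕ := nth invL 62 a
noncomputable def bs : List ℕ := [0,3312,4576,8336,16832,384,592,16]
noncomputable def mc0 : Lvl := ⟨0, [5,6,7,8,9,10,11,12,13,14,15], 2048,
  fun i => look 0xffff mc0c (Nat.mul 16 i), fun i => look 0xfff mc0p (Nat.mul 12 i),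
  fun i => look 0xff mc0l (Nat.mul 8 i), fun i => look 0xff mc0i (Nat.mul 8 i), fun x => look 0xffff mc0q x, 11⟩
noncomputable def mc1 : Lvl := ⟨3312, [18,19,20,24,25,26,27,28,29,30,31], 1771,
  fun i => look 0xffff mc1c (Nat.mul 16 i), fun i => look 0xfff mc1p (Nat.mul 12 i),
  fun i => look 0xff mc1l (Nat.mul 8 i), fun i => look 0xff mc1i (Nat.mul 8 i), fun x => look 0xffff mc1q x, 5⟩
noncomputable def mc2 : Lvl := ⟨4576, [32,33,34,35,36,37], 90,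
  fun i => look 0xffff mc2c (Nat.mul 16 i), fun i => look 0xff mc2p (Nat.mul 8 i),
  fun i => look 0xff mc2l (Nat.mul 8 i), fun i => look 0xff mc2i (Nat.mul 8 i), fun x => look 0xffff mc2q x, 4⟩
noncomputable def mc3 : Lvl := ⟨8336, [38,39,40,41,42,43], 12,
  fun i => look 0xffff mc3c (Nat.mul 16 i), fun i => look 0xf mc3p (Nat.mul 4 i),
  fun i => look 0xff mc3l (Nat.mul 8 i), fun i => look 0xff mc3i (Nat.mul 8 i), fun x => look 0xffff mc3q x, 2⟩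
noncomputable def mc4 : Lvl := ⟨16832, [44,45,46,47,48], 8,
  fun i => look 0xffff mc4c (Nat.mul 16 i), fun i => look 0xf mc4p (Nat.mul 4 i),
  fun i => look 0xff mc4l (Nat.mul 8 i), fun i => look 0xff mc4i (Nat.mul 8 i), fun x => look 0xffff mc4q x, 2⟩
noncomputable def mc5 : Lvl := ⟨384, [51,52,53], 4,
  fun i => look 0xffff mc5c (Nat.mul 16 i), fun i => look 0xf mc5p (Nat.mul 4 i),
  fun i => look 0xff mc5l (Nat.mul 8 i), fun i => look 0xff mc5i (Nat.mul 8 i), fun x => look 0xffff mc5q x, 1⟩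
noncomputable def mc6 : Lvl := ⟨592, [55], 2,
  fun i => look 0xffff mc6c (Nat.mul 16 i), fun i => look 0xf mc6p (Nat.mul 4 i),
  fun i => look 0xff mc6l (Nat.mul 8 i), fun i => look 0xff mc6i (Nat.mul 8 i), fun x => look 0xffff mc6q x, 1⟩
noncomputable def mc7 : Lvl := ⟨16, [57], 2,
  fun i => look 0xffff mc7c (Nat.mul 16 i), fun i => look 0xf mc7p (Nat.mul 4 i),
  fun i => look 0xff mc7l (Nat.mul 8 i), fun i => look 0xff mc7i (Nat.mul 8 i), fun x => look 0xffff mc7q x, 1⟩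
noncomputable def mc : List Lvl := [mc0, mc1, mc2, mc3, mc4, mc5, mc6, mc7]
def d0 : ℕ := 1484
def dw : ℕ := 699
def zw : List ℕ := [0,2,0,1,0,2,0,1,0,1,0,1,0,2,0,1,0,2,0,1,0,2,0,1,0,2,0,2,0,1,0,1,0,1,0,1,0,1,0,1,0,1,0,2,0,1,0]
def w1 : List ℕ := [1,0,1,0,2,0,2,0,1,0,1,0,1]
def pc : List ℕ := [129,512,32,128]
def s1 : List ℕ := [58,60]
def nw : List ℕ := [25,28,28,19,32,34,33,41,44,51,55]
def rr : List (List ℕ) := [[0,0],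
  [0,16,0,16,0,16]]
def f128 : List ℕ := [0,384,592,976,1040,1424,1600,1984,2272,2400,2736,2864,3312,3440,3744,3872,4192,4576,4656,5040,5232,5616,5664,6048,6272,6400,6864,6992,7312,7440,7872,8000,8336,8464,8896,9024,9344,9472,9936,10064,10352,10736,10784,11168,11360,11744,11824,12208,12528,12656,12960,13088,13536,13664,14000,14128,14352,14736,14912,15296,15360,15744,15952,16336,16448,16832,16912,17296,17488,17872,17920,18304,18592,18720,19184,19312,19632,19760,20192,20320,20512,20896,21104,21488,21552,21936,22112,22496,22720,22848,23184,23312,23760,23888,24192,24320,24784,24912,25216,25344,25792,25920,26256,26384,26672,27056,27232,27616,27680,28064,28272,28656,28848,28976,29408,29536,29856,29984,30448,30576,30800,31184,31232,31616,31808,32192,32272,32656]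
def kw : List (List ℕ) := [[8,9,10,2,0,1,0,2,0,1,0,1,0,2,0,1,0,1,0,2,0,2,0,2,0,1,0,2,0,1,0,2,0,1,0,1,0,1,0,2,0,2,0,1,0,1,0,1],
  [7,9,10,0,2,0,1,0,2,0,1,0,1,0,2,0,1,0,1,0,2,0,2,0,2,0,1,0,2,0,1,0,2,0,1,0,1,0,1,0,2,0,2,0,1,0,1,0,1,0],
  [7,8,10,2,0,1,0,2,0,1,0,1,0,2,0,1,0,1,0,2,0,2,0,2,0,1,0,2,0,1,0,2,0,1,0,1,0,1,0,2,0,2,0,1,0,1,0,1],
  [7,8,9,0,2,0,1,0,2,0,1,0,1,0,2,0,1,0,1,0,2,0,2,0,2,0,1,0,2,0,1,0,2,0,1,0,1,0,1,0,2,0,2,0,1,0,1,0,1,0],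
  [7,9,11,12,14,2,0,2,0,1,0,2,0,1,0,2,0,2,0,2,0,1,0,1,0,1,0,2,0,1,0,2,0,2,0,2,0,1,0,1,0,1,0,2,0,1,0,2,0,1,0,1],
  [8,10,14,0,2,0,2,0,1,0,2,0,1,0,2,0,2,0,2,0,1,0,1,0,1,0,2,0,1,0,2,0,2,0,2,0,1,0,1,0,1,0,2,0,1,0,2,0,1,0,1,0],
  [8,10,13,0,2,0,2,0,1,0,2,0,2,0,1,0,1,0,2,0,2,0,1,0,1,0,1,0,1,0,2,0,1,0,2,0,1,0,2,0,2,0,1,0,2,0,1,0,1,0,2,0,1,0,2],
  [8,10,12,0,2,0,2,0,1,0,2,0,1,0,2,0,2,0,2,0,1,0,1,0,1,0,2,0,1,0,2,0,2,0,2,0,1,0,1,0,1,0,2,0,1,0,2,0,1,0,1,0],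
  [7,9,15,0,1,0,2,0,1,0,2,0,2,0,1,0,2,0,1,0,1,0,2,0,1,0,2,0,1,0,2,0,2,0,2,0,2,0,1,0,1,0,2,0,2,0,1,0,1,0,2,0,1,0,1]]
def kw2 : List (List ℕ) := [[7,8,9,2,0,1,0,2,0,1,0,1,0,2,0,1,0,1,0,2,0,2,0,2,0,1,0,2,0,1,0,2,0,1,0,1,0,1,0,2,0,2,0,1,0,1,0,1],
  [9,0,2,0,1,0,2,0,1,0,1,0,2,0,1,0,1,0,2,0,2,0,2,0,1,0,2,0,1,0,2,0,1,0,1,0,1,0,2,0,2,0,1,0,1,0,1,0],
  [8,2,0,1,0,2,0,1,0,1,0,2,0,1,0,1,0,2,0,2,0,2,0,1,0,2,0,1,0,2,0,1,0,1,0,1,0,2,0,2,0,1,0,1,0,1],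
  [8,9,10,0,2,0,1,0,2,0,1,0,1,0,2,0,1,0,1,0,2,0,2,0,2,0,1,0,2,0,1,0,2,0,1,0,1,0,1,0,2,0,2,0,1,0,1,0,1,0],
  [8,11,13,15,2,0,2,0,1,0,2,0,1,0,2,0,2,0,2,0,1,0,1,0,1,0,2,0,1,0,2,0,2,0,2,0,1,0,1,0,1,0,2,0,1,0,2,0,1,0,1],
  [7,8,10,13,14,15,0,2,0,2,0,1,0,2,0,1,0,2,0,2,0,2,0,1,0,1,0,1,0,2,0,1,0,2,0,2,0,2,0,1,0,1,0,1,0,2,0,1,0,2,0,1,0,1,0],
  [8,11,13,14,0,2,0,2,0,1,0,2,0,2,0,1,0,1,0,2,0,2,0,1,0,1,0,1,0,1,0,2,0,1,0,2,0,1,0,2,0,2,0,1,0,2,0,1,0,1,0,2,0,1,0,2],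
  [7,8,10,12,13,15,0,2,0,2,0,1,0,2,0,1,0,2,0,2,0,2,0,1,0,1,0,1,0,2,0,1,0,2,0,2,0,2,0,1,0,1,0,1,0,2,0,1,0,2,0,1,0,1,0],
  [9,11,12,15,0,1,0,2,0,1,0,2,0,2,0,1,0,2,0,1,0,1,0,2,0,1,0,2,0,1,0,2,0,2,0,2,0,2,0,1,0,1,0,2,0,2,0,1,0,1,0,2,0,1,0,1]]
def ecw : List (List ℕ) := [[],
  [1,0],
  [2,0,1,0],
  [0,2,0,1,0],
  [2,0,1,0,2,0],
  [0,2,0,1,0,2,0],
  [2,0,1,0,1,0,1,0],
  [2,0,1,0,1,0,2,0],
  [1,0,2,0,2,0,2,0],
  [0,2,0,1,0,1,0,1,0],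
  [0,1,0,2,0,2,0,2,0]]
def cjT : List (List ℕ) := [[1905,351,8,4,32,16,512,704,1024,64,256],
  [1,1681,351,1142,587,1207,2010,909,1939,1217,631]]

end Cfsg.Agent.SpO.J4.P
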