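import Cfsg.Agent.Lib.SpO.J4.MD
import Cfsg.Agent.Lib.SpO.J4.PDefs
import Cfsg.Agent.Lib.SpO.Bit

set_option autoImplicit false
set_option maxRecDepth 100000
set_option Elab.async false

namespace Cfsg.Agent.SpO.J4.M
open Cfsg.Agent.CG Cfsg.Agent.Id

noncomputable def steps : List (ℕ × ℕ) := [(1, 1)]
noncomputable abbrev mw : List ℕ → List ℕ → List ℕ := mapw 8 2 112 steps tabs
noncomputable abbrev bas : List ℕ := basp (2 ^ 8) 1 112
noncomputable def I : List ℕ := [0, 2, 1, 4, 3, 5, 6, 7, 8, 9, 10, 11, 12, 13, 14, 15]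
noncomputable abbrev one (v : List ℕ) : Bool := oneB mw bas v
noncomputable abbrev u (c : ℕ) : ℕ := nth L16 0 c
noncomputable def par (i : ℕ) : ℕ := look 0xff parT (Nat.mul 8 i)
noncomputable def lab (i : ℕ) : ℕ := look 0xff labT (Nat.mul 8 i)
noncomputable def inf (i : ℕ) : ℕ := look 0xfff infT (Nat.mul 12 i)
/-- The parity of the number of bits. -/
noncomputable def pb (m : ℕ) : ℕ := Nat.land (Nat.shiftRight PT m) 1
/-- A row of a matrix is a unit row. -/
noncomputable def rowOK (j : ℕ) : Bool :=
  force (par j) fun p => force (lab j) fun a => band (blt p j) (band (Nat.ble 7 a) (band (blt a 16)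
    (band (Nat.beq (inf p % 4) (inf j % 4)) (allLt (fun c => Nat.beq (dig (2 ^ 8) (nth (nth tabs (idc (2 ^ 8) 112) a) 0 c) p)
      (if j = c then 1 else 0)) 112))))
/-- The vector is the affine function with the given coefficients. -/
noncomputable def wOK (x s : ℕ) : Bool :=
  force x fun x => allLt (fun j => Nat.beq (dig (2 ^ 8) x j) (pb (s &&& (2 * inf j + 1)))) 112
noncomputable def lkOK (a : ℕ) : Bool :=
  allLt (fun k => force (nth (nth sT [] a) 0 k) fun s => force (2 ^ k) fun t => band (blt s 4096)
    (band (wOK (nth (mw [a] WB) 0 k) s) (allLt (fun i =>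
      Nat.beq (pb (s &&& (2 * (P.app a (16 * i) / 16) + 1))) (pb (t &&& (2 * i + 1)))) 2048))) 12
/-- The number of bits. -/
noncomputable def pc (m : ℕ) : ℕ := ((List.range 12).map fun k => (m.testBit k).toNat).sum

theorem k0 : tabsOK (2 ^ 8) 2 112 tabs = true := tabsOK_of (by decide +kernel) (by decide +kernel)
theorem ks : redOK 8 2 112 steps = true := by decide +kernel
theorem k1 : invB mw bas I 16 = true := by decide +kernel
theorem k16 : okM 112 L16 = true := by decide +kernel
theorem k17 : band (okM 112 L17) (ndL L17) = true := by decide +kernel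
theorem kW : okM 112 WB = true := by decide +kernel
theorem rows : allRange rowOK 4 108 = true := by decide +kernel
theorem u16 : allLt (fun c => allLt (fun j => Nat.beq (dig (2 ^ 8) (u c) j) ((c >>> (inf j % 4)) % 2)) 112) 16 = true := by
  decide +kernel
theorem pbc : allLt (fun m => Nat.beq (pb m) (pc m % 2)) 4096 = true := by decide +kernel
theorem wb : allLt (fun k => wOK (nth WB 0 k) (2 ^ k)) 12 = true := by decide +kernel
theorem lk0 : lkOK 0 = true := by decide +kernel
theorem lk1 : lkOK 1 = true := by decide +kernel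
theorem lk2 : lkOK 2 = true := by decide +kernel
theorem lk5 : lkOK 5 = true := by decide +kernel

end Cfsg.Agent.SpO.J4.M
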