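import Cfsg.Agent.Lib.SpO.J4.MC1
import Cfsg.Agent.Lib.SpO.J4.MC2
import Cfsg.Agent.Lib.SpO.Ut
import Cfsg.Agent.Lib.DC.J4G

/-! The Janko group `J₄`: a module of dimension 112 over the field with two elements. -/

set_option autoImplicit false
set_option maxRecDepth 100000

namespace Cfsg.Agent.SpO.J4
open Cfsg.Agent.CG Cfsg.Agent.DC Cfsg.Agent.TCX Cfsg.Agent.Id Matrix

theorem card_le_of_rows {H X Γ : Type*} [Group H] [MulAction H X] [Group Γ] {A : Act H X} {ty : Bool}
    {facts : Tr DC.Fact} {nd : ℕ → ℕ} {rules : Tr DC.Rule} {f : H →* Γ} {τ z : ℕ → Γ} {L : Subgroup Γ} {N : ℕ}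
    (S : ∀ j, j < N → Sem A ty facts nd rules f τ z L (facts.get j)) {M : Subgroup Γ}
    (hM : ∀ E μ, PP ty f L E μ → μ ∈ M) (hM2 : ∀ i, z i ∈ M) [Finite M] {Np nJ : ℕ} {pts : Tr (ℕ × ℕ)}
    {J : List (ℕ × ℕ)} {tb : ℕ → ℕ} (h0 : pts.get 0 = (0, 1)) (hN : 0 < Np)
    (e : allRange (rowChk facts N Np nJ pts J tb) 0 Np = true) :
    Nat.card (Subgroup.closure {t | ∃ x ∈ J, t = tau τ x.1}) ≤ Nat.card M * Np := by
  let F : M × Fin Np → Γ := fun x => (x.1 : Γ) * cn A facts nd f τ (pts.get x.2).1 * f (pw A.gen (pts.get x.2).2)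
  have hS : (Set.range F).Finite := Set.finite_range _
  have h1 := closure_subset_of_finite (T := {t | ∃ x ∈ J, t = tau τ x.1}) hS
    ⟨(1, ⟨0, hN⟩), by simp [F, h0, cn_zero, pw_one]⟩ (by
    rintro _ ⟨x, hx, rfl⟩ _ ⟨⟨ν, i⟩, rfl⟩
    have e1 := (allRange_iff _ _ _).1 e i (Nat.zero_le _) (by simp)
    unfold rowChk at e1
    rw [force_eq, allL_iff] at e1
    have e2 := e1 x hx
    simp only [force_eq, band_eq, blt_iff, beq_iff] at e2
    obtain ⟨k1, k2, k3, k4, k5, k6, k7, k8⟩ := e2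
    obtain ⟨μ, m1, m2⟩ := (S _ k1).1 k3
    rw [k4, k5, k6, k7, k8] at m2
    generalize facts.get (Nat.land (tb (Nat.add (Nat.mul i nJ) x.2)) 16777215) = F' at m1 m2
    refine ⟨(ν * ⟨zv z F'.v * μ, mul_mem (zv_mem hM2 _) (hM _ _ m1)⟩, ⟨_, k2⟩), ?_⟩
    simp only [F, Subgroup.coe_mul]
    rw [mul_assoc (ν : Γ), mul_assoc (ν : Γ), mul_assoc (ν : Γ), mul_assoc (ν : Γ), m2])
  have h2 := Nat.card_mono hS h1
  have h3 := Finite.card_range_le F
  rw [Nat.card_prod, Nat.card_eq_fintype_card (α := Fin Np), Fintype.card_fin] at h3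
  exact h2.trans h3

theorem blk0 : IsBlk (apppT (2 ^ 8) 2 (1 * 112) M.tabs (idc (2 ^ 8) 112))
    (fun x => red (2 ^ 8) 2 (1 * 112) x = x) M.mw :=
  isBlk_mapw (by norm_num) (by norm_num) (by norm_num) (by norm_num) (by norm_num) M.ks M.k0

/-- The matrices. -/
noncomputable def c : MatCode (Fin 112) (ZMod 2) :=
  code1 (2 ^ 8) 2 112 (by norm_num) (by norm_num) M.tabs M.I 16 (by decide +kernel) M.k0
    (blk0.inv (ok_bas M.k0) M.k1)

theorem blk : IsBlk c.act.app c.act.ok M.mw := blk0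

theorem ok16 : ∀ x ∈ M.L16, c.act.ok x := red_of_okM M.k16

theorem ok17 : ∀ x ∈ M.L17, c.act.ok x := red_of_okM ((band_eq _ _).1 M.k17).1

theorem okW : ∀ x ∈ M.WB, c.act.ok x := red_of_okM M.kW

theorem meq {v w : List ℕ} (h : eqB M.mw M.bas v w = true) : ev c.act.gen v = ev c.act.gen w :=
  c.base.ev_eq (blk0.eq (ok_bas M.k0) h)

theorem mone {v : List ℕ} (h : M.one v = true) : ev c.act.gen v = 1 := c.base.ev_eq (blk0.one (ok_bas M.k0) h)

theorem cpt (x : ℕ) (i : Fin 112) : c.act.pt x i = (dig (2 ^ 8) x i : ZMod 2) := code1_pt _ _ _ _ _ _ _ _ _ _ _ x i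

theorem cmat (a : ℕ) (i j : Fin 112) :
    c.mat a i j = (dig (2 ^ 8) (nth (nth M.tabs (idc (2 ^ 8) 112) a) 0 j) i : ZMod 2) :=
  code1_mat _ _ _ _ _ _ _ _ _ _ _ a i j

theorem ctriv {a : ℕ} (h : 16 ≤ a) : c.act.gen a = 1 := code1_triv _ _ _ _ _ _ _ _ _ _ _ a h

abbrev G : Type := Spor.J4
abbrev H : Type := CG.M24p.PG
abbrev V : Type := Fin 112 → ZMod 2

instance finG : Finite G := J4G.finite

/-- The embedding of the table group. -/
noncomputable def f : H →* G := J4G.model.choose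

/-- The extra generator. -/
noncomputable def t : G := tauG Spor.J4.edges Spor.J4.extra J4G.gl 0

/-- The letters of the presentation. -/
noncomputable abbrev l0 : ℕ → G := lt CG.M24p.act.gen f t 3

theorem spec : (∀ r ∈ J4T.rels.map Prod.fst, ev (tokv CG.M24p.act.gen f fun _ => t) r = 1) ∧
    ∀ g, ev (tokv CG.M24p.act.gen f fun _ => t) (sbW J4c.iv J4G.ws (J4G.code g)).1 = PresentedGroup.of g :=
  J4G.model.choose_spec

attribute [irreducible] f t

theorem top : Subgroup.closure (Set.range f ∪ {t}) = ⊤ := top_of_model spec.2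

theorem evy {w : List ℕ} (h : ltAll 5 w = true) :
    ev (fun a => if a < 5 then c.act.gen a else 1) w = ev c.act.gen w :=
  ev_congr _ fun a ha => if_pos ((blt_iff _ _).1 ((allL_iff _ _).1 h a ha))

theorem exρ : ∃ ρ : G →* GL (Fin 112) (ZMod 2), ∀ a, ρ (l0 a) = if a < 5 then c.act.gen a else 1 :=
  exists_hom (R' := J4T.rels.map Prod.fst) CG.M24p.bounds CG.M24p.rels CG.M24p.clS CG.M24p.card.ge J4c.hiv J4c.h256 spec.2
    (hs := J4G.h3) (by decide +kernel) (by decide +kernel) (by norm_num) (by decide +kernel) (by decide +kernel)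
    (fun a => nth [.x, .y] .y a) (by decide +kernel) .t rfl _
    (fun v hv => (evy ((allL_iff _ _).1 (show allL (ltAll 5) CG.M24p.tcR = true by decide +kernel) v hv)).trans (mone (by
      rw [← List.take_append_drop 5 CG.M24p.tcR, List.mem_append] at hv
      exact hv.elim ((allL_iff _ _).1 M.r1 v) ((allL_iff _ _).1 M.r2 v))))
    (fun v hv => (evy ((allL_iff _ _).1 (show allL (fun v => ltAll 5 (v.map (tm 3))) (J4T.rels.map Prod.fst) = true by
      decide +kernel) v hv)).trans (mone (by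
      rw [← List.take_append_drop 4 (J4T.rels.map Prod.fst), List.mem_append] at hv
      exact hv.elim ((allL_iff _ _).1 M.r3 v) ((allL_iff _ _).1 M.r4 v))))
    (code_inv c 3) fun _ h => if_neg (by omega)

/-- The representation. -/
noncomputable def ρ : G →* GL (Fin 112) (ZMod 2) := exρ.choose

theorem ρ0 (a : ℕ) : ρ (l0 a) = if a < 5 then c.act.gen a else 1 := exρ.choose_spec a

attribute [irreducible] ρ c

/-- The letters with an element of the normal elementary abelian subgroup of the vector stabiliser. -/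
noncomputable def l1 (a : ℕ) : G := if a = 5 then ev l0 M.eW else l0 a

/-- All letters. -/
noncomputable def l (a : ℕ) : G := if a < 6 then l1 a else if a < 16 then ev l1 (P.slp a).2 else 1

theorem l_lt {a : ℕ} (h : a < 5) : l a = l0 a := by rw [l, if_pos (by omega), l1, if_neg (by omega)]

theorem l5 : l 5 = ev l0 M.eW := rfl

theorem l3 : l 3 = t := (l_lt (by norm_num)).trans (lt_self _ _ _ _)

theorem slp6 {a : ℕ} (h1 : 6 ≤ a) (h2 : a < 16) : (P.slp a).1 = false ∧ ∀ b ∈ (P.slp a).2, b ∈ [0, 1, 2, 5] :=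
  (show ∀ a < 16, 6 ≤ a → (P.slp a).1 = false ∧ ∀ b ∈ (P.slp a).2, b ∈ [0, 1, 2, 5] by decide +kernel) a h2 h1

theorem l_slp {a : ℕ} (h1 : 6 ≤ a) (h2 : a < 16) : l a = ev l (P.slp a).2 := by
  rw [l, if_neg (by omega), if_pos h2]
  exact ev_congr _ fun b hb => (if_pos ((show ∀ b ∈ [0, 1, 2, 5], b < 6 by decide) b ((slp6 h1 h2).2 b hb))).symm

theorem ρl (a : ℕ) : ρ (l a) = c.act.gen a := by
  have h5 : ∀ a, a < 6 → ρ (l a) = c.act.gen a := fun a h => by
    rcases Nat.lt_succ_iff_lt_or_eq.1 h with h | rfl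
    · rw [l_lt h, ρ0, if_pos h]
    · rw [l5, map_ev' ρ0, evy (by decide +kernel), meq M.e0, ev_singleton]
  by_cases h1 : a < 6
  · exact h5 a h1
  by_cases h2 : a < 16
  · rw [l_slp (by omega) h2, map_ev, ev_congr _ fun b hb => h5 b ((show ∀ b ∈ [0, 1, 2, 5], b < 6 by decide) b
      ((slp6 (by omega) h2).2 b hb)), meq ((allRange_iff _ _ _).1 M.e1 a (by omega) (by omega)), ev_singleton]
  · rw [l, if_neg h1, if_neg h2, map_one, ctriv (by omega)]

theorem ρw (w : List ℕ) : ρ (ev l w) = ev c.act.gen w := map_ev' ρl w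

noncomputable instance mod : DistribMulAction G V := DistribMulAction.compHom V ρ

theorem smul_def (g : G) (v : V) : g • v = ρ g • v := rfl

/-- The coded action on vectors. -/
noncomputable def A : Act G V where
  gen := l
  app := c.act.app
  ok := c.act.ok
  pt := c.act.pt
  ok_app := c.act.ok_app
  smul_pt a x hx := by rw [smul_def, ρl, c.act.smul_pt a x hx]
  inj := c.act.inj

theorem Ablk : IsBlk A.app A.ok M.mw := blk

theorem mw_smul {w : List ℕ} {x y : ℕ} (hx : A.ok x) (h : eqL (M.mw w [x]) [y] = true) : ev l w • A.pt x = A.pt y := by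
  rw [eqL_iff, Ablk _ _ (all_cons hx all_nil), List.map_singleton, List.singleton_inj] at h
  exact h ▸ A.ev_smul w hx

theorem oku {i : ℕ} (h : i < 16) : A.ok (M.u i) := ok16 _ (nth_mem (h.trans_eq (by decide +kernel)))

/-- The vectors fixed by a subgroup of order `2 ^ 9`. -/
noncomputable def u (i : ℕ) : V := A.pt (M.u i)

theorem une {i : ℕ} (h : i < 16) {w : List ℕ} (e : neB M.mw (M.u i) w [] = true) : ev l w • u i ≠ u i := fun e' =>
  (beq_false_iff _ _).1 ((bnot_eq _).1 (blk.ne (oku h) e)) (A.inj _ _ (A.ok_evp w (oku h)) (oku h)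
    ((A.ev_smul w (oku h)).symm.trans e'))

theorem u_apply {i : ℕ} (h : i < 16) (j : Fin 112) : u i j = ((i >>> (M.inf j % 4)) % 2 : ℕ) :=
  (cpt _ j).trans (congrArg _ ((beq_iff _ _).1 ((allLt_iff _ _).1 ((allLt_iff _ _).1 M.u16 i h) j j.2)))

theorem u0 : u 0 = 0 := funext fun j => by rw [u_apply (by norm_num)]; simp

theorem u15 : u 15 ≠ 0 := fun e => by
  have := congrFun e 0
  rw [u_apply (by norm_num)] at this
  exact absurd this (by decide +kernel)

theorem fix16 {v : V} (h : ∀ a, 7 ≤ a → a < 16 → l a • v = v) : ∃ i < 16, v = u i := by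
  have k : ∀ n (hn : n < 112), v ⟨n, hn⟩ = v ⟨M.inf n % 4, by omega⟩ := fun n => by
    induction n using Nat.strong_induction_on with
    | _ n ih =>
      intro hn
      by_cases h4 : n < 4
      · exact congrArg v (Fin.ext ((show ∀ n < 4, n = M.inf n % 4 by decide +kernel) n h4))
      have e := (allRange_iff _ _ _).1 M.rows n (by omega) (by omega)
      unfold M.rowOK at e
      simp only [force_eq, band_eq, blt_iff, ble_iff, beq_iff, allLt_iff] at e
      obtain ⟨e1, e2, e3, e4, e5⟩ := e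
      have e6 := congrFun (h _ e2 e3) ⟨M.par n, by omega⟩
      rw [smul_def, ρl, Units.smul_def, MatCode.coe_gen, smul_eq_mulVec, mulVec, dotProduct,
        Finset.sum_eq_single ⟨n, hn⟩ (fun j _ hj => by
          rw [cmat, e5 j j.2, if_neg fun e => hj (Fin.ext e.symm)]; simp) (by simp), cmat, e5 n hn, if_pos rfl,
        Nat.cast_one, one_mul, ih _ e1] at e6
      rw [e6]; exact congrArg v (Fin.ext e4)
  obtain ⟨i, h1, h2⟩ := (show ∀ w : Fin 4 → ZMod 2, ∃ i < 16, ∀ r : Fin 4, w r = ((i >>> r.1) % 2 : ℕ) by decide +kernel)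
    fun r => v ⟨r, by omega⟩
  exact ⟨i, h1, funext fun j => (k j j.2).trans ((h2 ⟨_, Nat.mod_lt _ (by norm_num)⟩).trans (u_apply h1 j).symm)⟩

theorem fixE {v : V} (h : ∀ a, 5 ≤ a → a < 16 → l a • v = v) (h0 : v ≠ 0) : v = u 15 := by
  obtain ⟨i, h1, rfl⟩ := fix16 fun a h1 => h a (by omega)
  have := (allLt_iff _ _).1 M.fE i h1
  rw [bor_eq, bor_eq, memL_iff] at this
  rcases this with h2 | h2 | h2
  · rcases List.mem_pair.1 h2 with rfl | rfl
    exacts [absurd u0 h0, rfl]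
  · exact absurd (ev_singleton l 5 ▸ h 5 (by omega) (by omega)) (une h1 h2)
  · exact absurd (ev_singleton l 6 ▸ h 6 (by omega) (by omega)) (une h1 h2)

theorem fl {a : ℕ} (h : a < 3) : l a = f (CG.M24p.act.gen a) := (l_lt (by omega)).trans (lt_lt _ _ _ h)

theorem f_mem {K : Subgroup G} (h : ∀ a ∈ [0, 1, 2], l a ∈ K) (x : H) : f x ∈ K :=
  mem_cl CG.M24p.clS f (fun a ha => fl ((show ∀ a ∈ [0, 1, 2], a < 3 by decide) a ha) ▸ h a ha) x

theorem g_mem {K : Subgroup G} (h : ∀ a ∈ [0, 1, 2], l a ∈ K) (ht : t ∈ K) (x : G) : x ∈ K := by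
  refine (show Subgroup.closure (Set.range f ∪ {t}) ≤ K from (Subgroup.closure_le _).2 ?_) (top ▸ Subgroup.mem_top x)
  rintro _ (⟨x, rfl⟩ | rfl)
  exacts [f_mem h x, ht]

/-- The subgroup of the coset enumeration. -/
noncomputable def L : Subgroup G := Subgroup.closure
  {x | ∃ y ∈ J4b.J, x = tau (fun j => ev (tokv CG.M24p.act.gen f fun _ => t) (J4G.ws2.getD j [])) y.1}

theorem card_L : Nat.card L ≤ 244823040 * 2048 := by
  have k1 := J4a.exp (z := fun _ => 1) hz_one (rels_one (rels := J4a.rels) spec.1 (by decide +kernel))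
  have k2 := card_le_of_rows (J4b.sem (L := f.range) hz_one (rels_sub (rels := J4b.rels) J4c.hiv J4c.h256 k1 J4G.ws2
    (hs := J4G.h4) (by decide +kernel)) (fun g => ⟨g, rfl⟩) (by simp [J4b.lrels])) hM_I (fun _ => one_mem _)
    (M := f.range) (pts := J4b.pts) (by decide +kernel) (by decide) J4b.c10
  have h2 := Nat.card_le_card_of_surjective _ f.rangeRestrict_surjective
  rw [CG.M24p.card] at h2
  exact k2.trans (Nat.mul_le_mul_right _ h2)

theorem e_tok : ev (tokv CG.M24p.act.gen f fun _ => t) (J4G.ws2.getD 0 []) = l 5 := by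
  rw [ev_tok _ _ _ (r := 3) (by norm_num) (by decide +kernel), l5]; rfl

theorem L_le {K : Subgroup G} (h : ∀ a ∈ [0, 1, 2, 5], l a ∈ K) : L ≤ K := (Subgroup.closure_le _).2 (by
  rintro _ ⟨y, hy, rfl⟩
  simp only [J4b.J, List.mem_cons, List.not_mem_nil, or_false] at hy
  rcases hy with rfl | rfl | rfl
  · exact (congrArg (· ∈ K) e_tok).mpr (h 5 (by simp))
  · exact (congrArg (· ∈ K) ((ev_singleton _ 0).trans (fl (by norm_num)).symm)).mpr (h 0 (by simp))
  · exact (congrArg (· ∈ K) ((ev_singleton _ 1).trans (fl (by norm_num)).symm)).mpr (h 1 (by simp)))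

theorem fx {a : ℕ} (h : a ∈ [0, 1, 2, 5]) : l a • u 15 = u 15 :=
  ev_singleton l a ▸ mw_smul (oku (by norm_num)) ((allL_iff _ _).1 M.fx a h)

theorem cov {i : ℕ} (h : i < 24) : M.cOK i = true := by
  have := allRange_append (allRange_append (allRange_append (allRange_append (allRange_append M.cv0 M.cv1) M.cv2) M.cv3)
    M.cv4) M.cv5
  exact (allRange_iff _ _ _).1 this i (Nat.zero_le _) (by omega)

theorem mem_L {g : G} (hg : g • u 15 = u 15) : g ∈ L := by
  have k3 := J4G.mem_L (CG.M24p.hinv 1) f (fun _ => t)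
  have hf := map_mem_of_gen CG.M24p.clS k3.1
  have sem := J4c.sem (L := L) hz_one (rels_one (rels := J4c.rels) spec.1 (by decide +kernel)) hf k3.2
  have k := fun {e : ℕ} {tb : ℕ → ℕ} => forest_sound sem hM_I (fun _ => one_mem _) J4c.hiv CG.M24p.tabOK.w_pos
    (fun _ => Iff.rfl) (act_surj CG.M24p.tabOK) (e := e) (eps := 1) (x0 := 0) ⟨0, by decide, rfl⟩
    (fun _ hg => stab_passes sem hz_one (fun _ => one_mem _) CG.M24p.chain CG.M24p.card_le J4c.c11 J4c.c12 hg)
    (fin := J4c.fin) (tb := tb)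
  obtain ⟨w, h1, μ, h2, h, e⟩ := cover_words CG.M24p.base (r := 3)
    (ns := [1, 4, 5, 6, 7, 8, 9, 10, 11, 12, 13, 14, 16, 17, 18, 19, 20, 21, 22])
    (cw := nth M.cwL []) (uw := nth M.uwL []) rfl (by decide +kernel) (by decide +kernel)
    (cover_of (M := L) (t := t) (fin := J4c.fin) (by decide) (all_cons (k J4c.for0) (all_cons (k J4c.for1)
      (all_cons (k J4c.for2) (all_cons (k J4c.for3) (all_cons (k J4c.for4) (all_cons (k J4c.for5)
      (all_cons (k J4c.for6) (all_cons (k J4c.for7) (all_cons (k J4c.for8) (all_cons (k J4c.for9)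
      (all_cons (k J4c.for10) (all_cons (k J4c.for11) (all_cons (k J4c.for12) (all_cons (k J4c.for13)
      (all_cons (k J4c.for14) (all_cons (k J4c.for15) (all_cons (k J4c.for16) (all_cons (k J4c.for17)
      (all_cons (k J4c.for18) (all_cons (k J4c.for19) all_nil)))))))))))))))))))) top) g
  obtain ⟨i, h3, rfl⟩ := List.mem_map.1 h1
  have h4 := (show ∀ i ∈ J4c.fin, i < 24 ∧ ∀ a ∈ nth M.cwL [] i, a < 5 by decide +kernel) i h3
  rw [← ev_congr (gen' := l0) _ fun a ha => l_lt (h4.2 a ha)] at e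
  rcases (bor_eq _ _).1 (cov h4.1) with h5 | h5
  · rw [e, (eqL_iff _ _).1 h5, ev_nil, mul_one]; exact mul_mem h2 (hf h)
  · have h6 : L ≤ MulAction.stabilizer G (u 15) := L_le fun a ha => fx ha
    rw [e, mul_smul, mul_smul, h6 (hf h), ← eq_inv_smul_iff, h6 (inv_mem h2)] at hg
    exact absurd hg (une (by norm_num) h5)

end Cfsg.Agent.SpO.J4
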