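import Cfsg.Agent.Lib.SpO.J4.PA

/-! The automorphisms of the Janko group `J₄`. -/

set_option autoImplicit false
set_option maxRecDepth 100000

namespace Cfsg.Agent.SpO.J4
open Cfsg.Agent.CG Cfsg.Agent.DC Cfsg.Agent.TCX Cfsg.Agent.Id

theorem ok17' : ∀ x ∈ M.L17, A.ok x := ok17

theorem y17 {i x : ℕ} (h : i < 9) (hx : x ∈ M.L17) : ev l (nth P.kw2 [] i) • A.pt x = A.pt x := by
  have k : ∀ i ∈ [0, 1, 2, 3, 4, 5, 6, 7, 8], M.yOK i = true := all_cons M.y0 (all_cons M.y1 (all_cons M.y2 (all_cons M.y3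
    (all_cons M.y4 (all_cons M.y5 (all_cons M.y6 (all_cons M.y7 (all_cons M.y8 all_nil))))))))
  have := (eqL_iff _ _).1 (k i ((show ∀ i < 9, i ∈ [0, 1, 2, 3, 4, 5, 6, 7, 8] by decide) i h))
  rw [Ablk _ _ ok17] at this
  exact (A.ev_smul _ (ok17 x hx)).trans (congrArg _ (List.map_inj_left.1 (this.trans (List.map_id _).symm) x hx))

attribute [local irreducible] P.act CG.M24.act CG.M24p.act l u A

theorem je {a : ℕ} (h1 : 5 ≤ a) (h2 : a < 16) : j (P.act.gen a) = l a :=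
  jl ((show ∀ a < 16, 5 ≤ a → okL [a] = true by decide +kernel) a h2 h1)

theorem fixE' {v : V} (h : ∀ ε ∈ E, j ε • v = v) (h0 : v ≠ 0) : v = u 15 :=
  fixE (fun _ h1 h2 => je h1 h2 ▸ h _ (e_mem h1 h2)) h0

theorem norm_E (φ : MulAut G) : ∃ g, ∀ x, (MulAut.conj g * φ : MulAut G) (j x) ∈ j.range ∧
    (x ∈ E → (MulAut.conj g * φ : MulAut G) (j x) ∈ E.map j) := by
  have h1 : π.ker = E := Subgroup.ext fun _ => π_one
  obtain ⟨S, hS⟩ := ((S2_two.comap_of_ker_isPGroup π (h1 ▸ E_two)).map j).exists_le_sylow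
  have h2 : ∀ ε ∈ E, j ε ∈ S := fun ε h => hS ⟨ε, by simp [π_one.2 h], rfl⟩
  obtain ⟨v, h3, h4⟩ := S.isPGroup'.exists_fixed_point_of_prime_dvd_card_of_fixed_point V
    (by rw [Nat.card_fun]; simp) (a := 0) fun _ => smul_zero _
  rw [fixE' (fun ε h => h3 ⟨_, h2 ε h⟩) h4.symm] at h3
  have h5 : ∀ s ∈ S, ∃ x, j x = s := fun s hs => mem_j (h3 ⟨s, hs⟩)
  obtain ⟨g, hg⟩ := MulAction.exists_smul_eq G (φ • S) S
  rw [Sylow.smul_def, ← mul_smul] at hg
  refine ⟨g, ?_⟩
  generalize MulAut.conj g * φ = β at hg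
  have h6 : ∀ s, β s ∈ S ↔ s ∈ S := fun s => by
    conv_lhs => rw [← hg]
    exact Subgroup.smul_mem_pointwise_smul_iff
  have h7 : (E.map j).map β.toMonoidHom ≤ j.range := by
    rintro _ ⟨_, ⟨ε, h, rfl⟩, rfl⟩
    exact h5 _ ((h6 _).2 (h2 ε h))
  have h8 : Nat.card (((E.map j).map β.toMonoidHom).comap j) = Nat.card E := by
    rw [← Subgroup.card_map_of_injective j_inj, Subgroup.map_comap_eq_self h7,
      Subgroup.card_map_of_injective β.injective, Subgroup.card_map_of_injective j_inj]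
  have h9 := Subgroup.eq_of_le_of_card_ge (uniqE (((E_two.map j).map _).comap_of_injective j j_inj) (by
      rintro a ⟨_, ⟨ε, h, rfl⟩, e⟩ b ⟨_, ⟨ε', h', rfl⟩, e'⟩
      apply j_inj
      rw [map_mul, map_mul, ← e, ← e', ← map_mul, ← map_mul, ← map_mul, ← map_mul, E_comm h h']) (by
      rintro s hs a ⟨_, ⟨ε, h, rfl⟩, e⟩
      obtain ⟨s', e'⟩ := h5 (β.symm (j s)) ((h6 _).1 (by rw [β.apply_symm_apply]; exact hS ⟨s, hs, rfl⟩))
      exact ⟨_, ⟨_, E_normal.conj_mem _ h s', rfl⟩, by simp [e', ← e]⟩) (h8 ▸ card_E.ge)) h8.ge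
  have h10 : (E.map j).map β.toMonoidHom = E.map j := by rw [← Subgroup.map_comap_eq_self h7, h9]
  refine fun x => ⟨mem_j (fixE' (fun ε h => ?_) ((smul_ne_zero_iff_ne _).2 u15)), fun h => h10 ▸ ⟨_, ⟨x, h, rfl⟩, rfl⟩⟩
  obtain ⟨_, ⟨ε', h', rfl⟩, e⟩ := h10.ge ⟨ε, h, rfl⟩
  obtain ⟨η, -, e'⟩ := h10.le ⟨_, ⟨_, E_normal.conj_mem' _ h' x, rfl⟩, rfl⟩
  simp only [map_mul, map_inv, MulEquiv.coe_toMonoidHom] at e e'
  rw [← e, ← inv_smul_eq_iff, ← mul_smul, ← mul_smul, ← e', j_fix]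

theorem norm_L (φ : MulAut G) : ∃ g, ∃ γ : MulAut PL, (∀ x, j (γ x) = (MulAut.conj g * φ : MulAut G) (j x)) ∧
    (∀ x, π (γ x) = π x) ∧ γ (P.act.gen 16) = P.act.gen 16 := by
  obtain ⟨g, hg⟩ := norm_E φ
  obtain ⟨α, hα⟩ := exists_restrict j_inj (MulAut.conj g * φ) fun x => (hg x).1
  obtain ⟨ψ, hψ⟩ := exists_quot (Function.RightInverse.surjective πθ) α fun x hx => by
    obtain ⟨ε, h, e⟩ := (hg x).2 (π_one.1 hx)
    rw [← j_inj (e.trans (hα x).symm), π_one.2 h]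
  obtain ⟨m, rfl⟩ : ψ ∈ Inn Q := Subgroup.index_eq_one.1 CG.M24.card_out ▸ Subgroup.mem_top ψ
  have h1 : ∀ x, π ((MulAut.conj (θ m)⁻¹ * α : MulAut PL) x) = π x := fun x => by simp [← hψ, πθ, mul_assoc]
  obtain ⟨ε, h2, h3⟩ := aut_a h1
  exact ⟨(j ε)⁻¹ * (j (θ m))⁻¹ * g, MulAut.conj ε⁻¹ * (MulAut.conj (θ m)⁻¹ * α), fun x => by simp [hα, mul_assoc],
    fun x => by rw [MulAut.mul_apply, MulAut.conj_apply, map_mul, map_mul, h1, π_one.2 (inv_mem h2)]; simp [π_one.2 h2],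
    by rw [MulAut.mul_apply, MulAut.conj_apply, inv_inv, h3]⟩

theorem tk {a : ℕ} (h1 : 7 ≤ a) (h2 : a < 16) : t * l a = ev l (nth P.kw [] (a - 7)) * t := by
  have := geq ((allRange_iff _ _ _).1 (allRange_append (allRange_append M.kk0 M.kk1) M.kk2) (a - 7) (Nat.zero_le _)
    (by omega))
  rwa [app2_eq, ev_append, ev_cons, ev_singleton, ev_singleton, l3, Nat.sub_add_cancel h1] at this

theorem tt : t * t = 1 := ρ_inj (by
  have := mone ((band_eq _ _).1 ((band_eq _ _).1 M.tx).2).2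
  rwa [← ρw, ev_cons, ev_singleton, l3, ← map_one ρ] at this)

theorem t15 : t • u 15 = u 13 := by
  have := mw_smul (oku (by norm_num)) M.t15
  rwa [ev_singleton, l3, ← u, ← u] at this

theorem t_not (x : PL) : j x ≠ t := fun e => by
  have := congrFun ((e ▸ j_fix x :).symm.trans t15) 1
  rw [u_apply (by norm_num), u_apply (by norm_num)] at this
  exact absurd this (by decide +kernel)

theorem okk : ∀ i < 9, okL (nth P.kw [] i) = true ∧ okL (nth P.kw2 [] i) = true := by decide +kernel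

theorem one_of_fix {β : MulAut G} (h : ∀ x, β (j x) = j x) : β = 1 := by
  have k : ∀ {x y : G}, (∃ x', j x' = x) → (∃ y', j y' = y) → t * x = y * t → t⁻¹ * β t * x = x * (t⁻¹ * β t) := by
    rintro _ _ ⟨x, rfl⟩ ⟨y, rfl⟩ e
    have := congrArg β e
    rw [map_mul, map_mul, h, h] at this
    rw [mul_assoc, this, ← mul_assoc, ← mul_assoc, eq_mul_inv_of_mul_eq e.symm]
    group
  have h1 : ∀ a, 7 ≤ a → a < 16 → t⁻¹ * β t * l a = l a * (t⁻¹ * β t) := fun a h1 h2 =>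
    k ⟨_, je (by omega) h2⟩ ⟨_, jw (okk _ (by omega)).1⟩ (tk h1 h2)
  have h2 : t⁻¹ * β t * l 0 = l 0 * (t⁻¹ * β t) := k ⟨_, jl (a := 0) (by decide +kernel)⟩
    ⟨_, jl (a := 0) (by decide +kernel)⟩
    (by simpa [l3] using geq ((band_eq _ _).1 M.tx).1)
  have h3 : t⁻¹ * β t * ev l P.w1 = ev l P.w1 * (t⁻¹ * β t) :=
    k ⟨_, jw (w := P.w1) (by decide +kernel)⟩ ⟨_, jw (w := P.w1) (by decide +kernel)⟩
      (by simpa [l3, app2_eq] using geq ((band_eq _ _).1 ((band_eq _ _).1 M.tx).2).1)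
  have h4 : t⁻¹ * β t * ev l (nth P.kw [] 0) = ev l (nth P.kw [] 0) * (t⁻¹ * β t) :=
    k ⟨_, jw (okk 0 (by norm_num)).1⟩ ⟨_, je (a := 7) (by norm_num) (by norm_num)⟩ (by
      rw [eq_mul_inv_of_mul_eq (tk (a := 7) le_rfl (by norm_num)).symm, ← mul_assoc, ← mul_assoc, tt, one_mul,
        inv_eq_of_mul_eq_one_right tt])
  have h5 : t⁻¹ * (t⁻¹ * β t) = β t := by rw [← mul_assoc, ← mul_inv_rev, tt, inv_one, one_mul]
  have h6 : β t = t * (t⁻¹ * β t) := (mul_inv_cancel_left _ _).symm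
  generalize t⁻¹ * β t = m at *
  have k2 : ∀ {w : List ℕ}, okL w = true → m * ev l w = ev l w * m → ev l w • m • u 15 = m • u 15 := fun h e => by
    rw [← mul_smul, ← e, mul_smul, ← jw h, j_fix]
  obtain ⟨i, h7, h8⟩ := fix16 (v := m • u 15) fun a h2 h3 => by
    rw [← mul_smul, ← h1 a h2 h3, mul_smul, ← je (by omega) h3, j_fix]
  have h9 := (allLt_iff _ _).1 M.fT i h7
  rw [bor_eq, bor_eq, memL_iff] at h9
  rcases h9 with h9 | h9 | h9
  rotate_left
  · exact absurd (h8 ▸ k2 (w := [0]) (by decide +kernel) (by simpa using h2)) (une h7 h9)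
  · exact absurd (h8 ▸ k2 (by decide +kernel) h3) (une h7 h9)
  simp only [List.mem_cons, List.not_mem_nil, or_false] at h9
  rcases h9 with rfl | rfl | rfl | rfl
  · exact absurd (h8.trans u0) ((smul_ne_zero_iff_ne _).2 u15)
  · obtain ⟨μ, rfl⟩ := mem_j h8
    rw [cent_K (μ := μ) (fun a h2 h3 => j_inj (by rw [map_mul, map_mul, je (by omega) h3, h1 a h2 h3]))
      (j_inj (by rw [map_mul, map_mul, jl (by decide +kernel), h2]))
      (j_inj (by rw [map_mul, map_mul, jw (by decide +kernel), h3])), map_one, mul_one] at h6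
    refine MulEquiv.ext (g_mem (K := β.toMonoidHom.eqLocus (MonoidHom.id G)) (fun a ha => ?_) h6)
    exact jl ((show ∀ a ∈ [0, 1, 2], okL [a] = true by decide +kernel) a ha) ▸ h _
  · obtain ⟨x, e⟩ := mem_j (g := t⁻¹ * m) (by rw [mul_smul, h8, inv_smul_eq_iff, t15])
    exact absurd (β.injective ((h x).trans (e.trans h5))) (t_not x)
  · obtain ⟨x, e⟩ := mem_j (g := m⁻¹ * t * m) (by
      have := mw_smul (oku (by norm_num)) M.t2
      rw [ev_singleton, l3, ← u] at this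
      rw [mul_smul, mul_smul, h8, this, inv_smul_eq_iff, h8])
    refine absurd ?_ k_not
    rw [show ev P.act.gen (nth P.kw [] 0) = x * P.act.gen 7 * x⁻¹ from j_inj (by
      rw [map_mul, map_mul, map_inv, e, je (by norm_num) (by norm_num), jw (okk 0 (by norm_num)).1, mul_assoc _ m,
        h1 7 le_rfl (by norm_num), ← mul_assoc, mul_assoc _ t, tk le_rfl (by norm_num), ← mul_assoc,
        inv_mul_eq_iff_eq_mul.2 (eq_mul_inv_of_mul_eq h4.symm |>.trans (mul_assoc _ _ _))]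
      group)]
    exact E_normal.conj_mem _ (e_mem (by norm_num) (by norm_num)) _

/-- The images of the letters under the outer automorphism of the stabiliser. -/
noncomputable def img (a : ℕ) : List ℕ := nth [bw P.d0 ++ [0], 0 :: bw P.d0 ++ [0, 1], 2 :: 0 :: bw P.d0 ++ [0]] [a] a

theorem not_ext {β : MulAut G} {γ : MulAut PL} (h : ∀ x, j (γ x) = β (j x)) (h1 : ∀ ε ∈ E, γ ε = ε)
    (h2 : γ (P.act.gen 16) = P.act.gen 16) (h3 : γ (P.act.gen 0) = ev P.act.gen (img 0)) : False := by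
  have h4 : γ (P.act.gen 1) = ev P.act.gen (img 1) := mul_left_cancel (a := γ (P.act.gen 0)) (by
    have : P.act.gen 0 * P.act.gen 1 = P.act.gen 16 := by simpa using peq (v := [0, 1]) (w := [16]) (by decide +kernel)
    rw [← map_mul, this, h2, h3, ← ev_append, peq (w := [16]) (by decide +kernel), ev_singleton])
  have h5 : γ (P.act.gen 2) = ev P.act.gen (img 2) := mul_left_cancel (a := γ (P.act.gen 1)) (by
    have : P.act.gen 1 * P.act.gen 2 = 1 := by simpa using peq (v := [1, 2]) (w := []) (by decide +kernel)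
    rw [← map_mul, this, map_one, h4, ← ev_append, peq (w := []) (by decide +kernel), ev_nil])
  have h6 : ∀ a, 7 ≤ a → a < 16 → β t * l a = ev l (nth P.kw2 [] (a - 7)) * β t := fun a k1 k2 => by
    have k3 := okk (a - 7) (by omega)
    have := congrArg β (tk k1 k2)
    rw [map_mul, map_mul, ← je (by omega) k2, ← jw k3.1, ← h, ← h, h1 _ (e_mem (by omega) k2), je (by omega) k2] at this
    rw [this, ← jw k3.2, ← peq ((allLt_iff _ _).1 (show allLt (fun i => eqW P.app P.bs (substW img (nth P.kw [] i))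
      (nth P.kw2 [] i)) 9 = true by decide +kernel) (a - 7) (by omega)), ev_substW]
    congr 2
    refine (map_ev _ γ.toMonoidHom _).trans (ev_congr _ fun b hb => ?_)
    have k4 := (allL_iff _ _).1 k3.1 b hb
    rw [bor_eq, band_eq, blt_iff, blt_iff, ble_iff] at k4
    rcases (show b = 0 ∨ b = 1 ∨ b = 2 ∨ ∃ c, b = c + 3 ∧ 5 ≤ b ∧ b < 16 by
      rcases k4 with k4 | k4
      · omega
      · exact Or.inr (Or.inr (Or.inr ⟨b - 3, by omega, k4⟩))) with rfl | rfl | rfl | ⟨c, rfl, k5, k6⟩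
    exacts [h3, h4, h5, (h1 _ (e_mem k5 k6)).trans (ev_singleton _ _).symm]
  have h7 := (List.subperm_of_subset (((nodup_of_ndL ((band_eq _ _).1 M.k17).2).map_on (f := fun x => (β t)⁻¹ • A.pt x)
    fun x hx y hy e => A.inj _ _ (ok17' x hx) (ok17' y hy) (MulAction.injective _ e)))
    (l₂ := (List.range 16).map u) fun v hv => by
      obtain ⟨x, hx, rfl⟩ := List.mem_map.1 hv
      obtain ⟨i, k1, k2⟩ := fix16 (v := (β t)⁻¹ • A.pt x) fun a k1 k2 => by
        rw [eq_inv_smul_iff, ← mul_smul, ← mul_smul, h6 a k1 k2, mul_inv_cancel_right, y17 (by omega) hx]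
      exact List.mem_map.2 ⟨i, List.mem_range.2 k1, k2.symm⟩).length_le
  rw [List.length_map, List.length_map, List.length_range] at h7
  exact absurd h7 (by decide +kernel)

theorem card_out : Nat.card (Out G) = 1 := card_out_one fun φ => by
  obtain ⟨g, γ, h1, h2, h3⟩ := norm_L φ
  rcases aut_x h2 h3 with h4 | h4
  · refine inn_of_conj (g := g) ?_
    have h5 : P.act.gen 0 * P.act.gen 1 = P.act.gen 16 := by simpa using peq (v := [0, 1]) (w := [16]) (by decide +kernel)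
    have h6 : P.act.gen 1 * P.act.gen 2 = 1 := by simpa using peq (v := [1, 2]) (w := []) (by decide +kernel)
    have h7 : γ (P.act.gen 1) = P.act.gen 1 := mul_left_cancel (a := γ (P.act.gen 0)) (by rw [← map_mul, h4, h5, h3])
    have h8 : γ (P.act.gen 2) = P.act.gen 2 :=
      mul_left_cancel (a := γ (P.act.gen 1)) (by rw [← map_mul, h7, h6, map_one])
    rw [one_of_fix fun x => (h1 x).symm.trans (congrArg j (pl_mem (K := γ.toMonoidHom.eqLocus (MonoidHom.id _))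
      (all_cons h4 (all_cons h7 (all_cons h8 (all_cons (aut_E h2 (e_mem le_rfl (by norm_num))) all_nil)))) x))]
    exact one_mem _
  · exact (not_ext h1 (fun _ => aut_E h2) h3 h4).elim

end Cfsg.Agent.SpO.J4
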