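import Cfsg.Agent.Lib.SpO.J4.PE

/-! The Janko group `J₄`: automorphisms of the stabiliser of a vector. -/

set_option autoImplicit false
set_option maxRecDepth 100000

namespace Cfsg.Agent.SpO.J4
open Cfsg.Agent.CG Cfsg.Agent.DC Cfsg.Agent.TCX Cfsg.Agent.Id

attribute [local irreducible] P.act CG.M24.act CG.M24p.act

theorem comm_l {a b : ℕ} (h : eqW P.app P.bs [a, b] [b, a] = true) :
    P.act.gen a * P.act.gen b = P.act.gen b * P.act.gen a := by simpa using peq h

theorem fixl {a : ℕ} (h : Nat.beq (evp P.app [a] 0) 0 = true) : P.act.gen a • (0 : Fin 2048) = 0 := by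
  simpa using fix0 h

theorem aut_E {γ : MulAut PL} (h : ∀ g, π (γ g) = π g) {ε : PL} (hε : ε ∈ E) : γ ε = ε := by
  have h5 : P.act.gen 5 ∈ E := e_mem le_rfl (by norm_num)
  have h1 : γ (P.act.gen 5) ∈ E := π_one.1 ((h _).trans (π_one.2 h5))
  have h2 : γ (P.act.gen 5) = P.act.gen 5 := by
    obtain ⟨x, h3, h4⟩ := fixm (S := P.s1) (F := [0, 16]) (by decide +kernel) (i := γ (P.act.gen 5) • 0) fun a ha => by
      have := (show ∀ a ∈ P.s1, eqW P.app P.bs [a, 5] [5, a] = true ∧ Nat.beq (evp P.app [a] 0) 0 = true by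
        decide +kernel) a ha
      exact comm_fix (comm_of h1 (h _).symm (by rw [← map_mul, comm_l this.1, map_mul])) (fixl this.2)
    have h6 : P.act.gen 5 • (0 : Fin 2048) = P.act.pt 16 := by
      rw [← ev_singleton P.act.gen, ev0, show evp P.app [5] 0 = 16 by decide +kernel]
    rcases List.mem_pair.1 h3 with rfl | rfl
    · rw [pt0, ← one_smul PL (0 : Fin 2048), one_smul] at h4
      have h7 := E_ext h1 (one_mem _) (h4.trans (one_smul _ _).symm)
      rw [map_eq_one_iff _ γ.injective] at h7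
      rw [h7, one_smul, show P.act.pt 16 = 1 from ptm 1] at h6
      exact absurd h6 (by decide)
    · exact E_ext h1 h5 (h4.trans h6.symm)
  refine E_le (K := γ.toMonoidHom.eqLocus (MonoidHom.id _)) (fun a h3 h4 => ?_) hε
  have h6 := peq ((allRange_iff _ _ _).1 (show allRange (fun a => eqW P.app P.bs (a :: nth P.ecw [] (a - 5))
    (nth P.ecw [] (a - 5) ++ [5])) 5 11 = true by decide +kernel) a h3 h4)
  rw [ev_cons, ev_append, ev_singleton] at h6
  generalize ev P.act.gen (nth P.ecw [] (a - 5)) = w at h6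
  obtain ⟨δ, h7, h8⟩ := π_eq (h w)
  have h9 := congrArg γ h6
  rw [map_mul, map_mul, h2, h8, mul_assoc, ← h6, ← mul_assoc, ← mul_assoc, E_comm h7 (e_mem h3 h4)] at h9
  exact mul_right_cancel (mul_right_cancel h9)

theorem aut_a {γ : MulAut PL} (h : ∀ g, π (γ g) = π g) : ∃ ε ∈ E, ε⁻¹ * γ (P.act.gen 16) * ε = P.act.gen 16 := by
  obtain ⟨δ, h1, h2⟩ := π_eq (h (P.act.gen 16))
  have h3 := (allLt_iff _ _).1 (show allLt (fun d => force (look 0xfff P.cT (12 * d)) fun c => band (blt c 2048)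
    (Nat.beq ((P.app 16 (16 * c) / 16) ^^^ d) c)) 2048 = true by decide +kernel) _ (δ • (0 : Fin 2048)).2
  rw [force_eq, band_eq, blt_iff, beq_iff] at h3
  obtain ⟨c, h4⟩ : ∃ c : Fin 2048, (P.app 16 (16 * c) / 16) ^^^ (δ • (0 : Fin 2048) : Fin 2048) = c := ⟨⟨_, h3.1⟩, h3.2⟩
  refine ⟨_, bw_mem c, ?_⟩
  obtain ⟨η, h5, h6⟩ := π_eq (g := (ev P.act.gen (bw c))⁻¹ * γ (P.act.gen 16) * ev P.act.gen (bw c))
    (h := P.act.gen 16) (by rw [map_mul, map_mul, map_inv, π_one.2 (bw_mem c), h]; simp)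
  have h7 := congrArg (· • (0 : Fin 2048)) h6
  simp only [mul_smul, h2, bw_val, fixl (a := 16) (by decide +kernel)] at h7
  rw [show δ • P.act.gen 16 • c = c from Fin.ext (by rw [E_val h1, gen_val, h4]), inv_smul_eq_iff.2 (bw_val c).symm] at h7
  rw [h6, E_ext h5 (one_mem _) (h7.symm.trans (one_smul _ _).symm), one_mul]

/-- The first letter followed by a translation. -/
noncomputable def appD (d a x : ℕ) :=
  Nat.rec (motive := fun _ => ℕ) (Nat.mul 16 (Nat.xor (Nat.div (P.app 0 x) 16) d)) (fun b _ => P.app (Nat.succ b) x) a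

theorem aut_x {γ : MulAut PL} (h : ∀ g, π (γ g) = π g) (ha : γ (P.act.gen 16) = P.act.gen 16) :
    γ (P.act.gen 0) = P.act.gen 0 ∨ γ (P.act.gen 0) = ev P.act.gen (bw P.d0 ++ [0]) := by
  obtain ⟨δ, h1, h2⟩ := π_eq (h (P.act.gen 0))
  obtain ⟨d, hd⟩ : ∃ d, δ • (0 : Fin 2048) = d := ⟨_, rfl⟩
  have k : ∀ i : Fin 2048, appD d 0 (16 * i) = 16 * (γ (P.act.gen 0) • i : Fin 2048) := fun i => by
    rw [h2, mul_smul, E_val h1, gen_val, hd]; rfl
  let B : Act PL (Fin 2048) :=
    { gen := fun a => Nat.rec (motive := fun _ => PL) (γ (P.act.gen 0)) (fun b _ => P.act.gen (b + 1)) a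
      app := appD d
      ok := P.act.ok
      pt := P.act.pt
      ok_app := fun a x hx => by
        cases a with
        | zero => obtain ⟨i, h1, rfl⟩ := (hok x).1 hx; exact (hok _).2 (k ⟨i, h1⟩ ▸ okc_mul _)
        | succ b => exact (happ ▸ P.act.ok_app (b + 1) x hx : P.act.ok (P.app (b + 1) x))
      smul_pt := fun a x hx => by
        cases a with
        | zero => obtain ⟨i, h1, rfl⟩ := (hok x).1 hx; rw [k ⟨i, h1⟩, ptm, ptm ⟨i, h1⟩]; rfl
        | succ b => exact (happ ▸ P.act.smul_pt (b + 1) x hx : _ = P.act.pt (P.app (b + 1) x))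
      inj := P.act.inj }
  have h3 : ∀ w ∈ P.rr, evp (appD d) w 0 = 0 := fun w hw => by
    have h4 := (show ∀ w ∈ P.rr, eqW P.app P.bs w [] = true ∧ ∀ a ∈ w, a = 0 ∨ a = 16 by decide +kernel) w hw
    have h5 : ev B.gen w = 1 := by
      rw [← map_one γ, ← ev_nil P.act.gen, ← peq h4.1]
      refine (ev_congr _ fun a ha' => ?_).trans (map_ev _ γ.toMonoidHom w).symm
      rcases h4.2 a ha' with rfl | rfl
      exacts [rfl, ha.symm]
    have h0 : B.ok 0 := (hok 0).2 ⟨0, by norm_num, rfl⟩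
    exact B.inj _ _ (B.ok_evp w h0) h0 (by rw [← B.ev_smul w h0, h5, one_smul])
  have h4 := (allLt_iff _ _).1 (show allLt (fun d => bor (memL d [0, P.d0])
    (anyL (fun w => bnot (Nat.beq (evp (appD d) w 0) 0)) P.rr)) 2048 = true by decide +kernel) d d.2
  rw [bor_eq, memL_iff, anyL_iff] at h4
  rw [h2, eq_bw h1, hd]
  rcases h4 with h4 | ⟨w, h4, h5⟩
  · rcases List.mem_pair.1 h4 with h5 | h5
    · exact Or.inl (by rw [h5, show bw 0 = [] from rfl, ev_nil, one_mul])
    · exact Or.inr (by rw [h5, ev_append, ev_singleton])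
  · exact absurd (h3 w h4) ((beq_false_iff _ _).1 ((bnot_eq _).1 h5))

theorem cent_K {μ : PL} (h1 : ∀ a, 7 ≤ a → a < 16 → μ * P.act.gen a = P.act.gen a * μ)
    (h2 : P.act.gen 0 * μ = μ * P.act.gen 0) (h3 : ev P.act.gen P.w1 * μ = μ * ev P.act.gen P.w1) : μ = 1 := by
  have h4 : θ (π μ) = 1 := by
    have : (ev P.act.gen P.nw)⁻¹ * θ (π μ) * ev P.act.gen P.nw = 1 := base.2 _ fun b hb => by
      obtain ⟨h4, h5⟩ := (show ∀ b ∈ P.bs, evp P.app P.nw b = evp P.app (bw (evp P.app P.nw b / 16)) 0 ∧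
        ∀ a ∈ bw (evp P.app P.nw b / 16), 7 ≤ a by decide +kernel) b hb
      rw [mul_smul, mul_smul, inv_smul_eq_iff, P.act.ev_smul _ (base.1 b hb), happ, h4, ← ev0]
      exact comm_fix (comm_of (bw_mem _) (πθ _) (ev_mem (H := Subgroup.centralizer {μ}) _ (fun a ha _ e => by
        rw [Set.mem_singleton_iff.1 e, h1 a (h5 a ha) (bw_lt ha).2]) μ rfl)) (θ_fix _)
    rwa [mul_assoc, inv_mul_eq_one, eq_comm, mul_eq_right] at this
  have h5 : μ ∈ E := π_one.1 (by rw [← πθ (π μ), h4, map_one])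
  have k : ∀ {a d : ℕ} {w : List ℕ}, eqW P.app P.bs [a] (bw d ++ w) = true → ev P.act.gen w * μ = μ * ev P.act.gen w →
      P.act.gen a * μ = μ * P.act.gen a := fun h c => comm_of h5 (by
    have := π_one.2 (same h)
    rwa [map_mul, map_inv, mul_inv_eq_one, ev_singleton] at this) c
  obtain ⟨x, h6, h7⟩ := fixm (S := [18, 22]) (F := [0]) (by decide +kernel) (i := μ • 0)
    (all_cons (comm_fix (k (d := P.d0) (w := [0]) (by decide +kernel) (by simpa using h2)) (fixl (by decide +kernel)))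
    (all_cons (comm_fix (k (d := P.dw) (by decide +kernel) h3) (fixl (by decide +kernel))) all_nil))
  rw [List.mem_singleton.1 h6, pt0] at h7
  exact E_ext h5 (one_mem _) (h7.trans (one_smul _ _).symm)

theorem k_not : ev P.act.gen (nth P.kw [] 0) ∉ E := fun h => by
  have := congrArg (· • (0 : Fin 2048)) (E_comm h (e_mem (a := 5) le_rfl (by norm_num)))
  simp only [← ev_singleton P.act.gen 5, ← ev_append, ev0] at this
  exact absurd (P.act.inj _ _ (happ ▸ P.act.ok_evp _ ((hok 0).2 ⟨0, by norm_num, rfl⟩))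
    (happ ▸ P.act.ok_evp _ ((hok 0).2 ⟨0, by norm_num, rfl⟩)) this) (by decide +kernel)

end Cfsg.Agent.SpO.J4
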