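import Cfsg.Agent.Lib.SpO.J4.PDefs

set_option autoImplicit false
set_option maxRecDepth 100000
set_option Elab.async false
set_option linter.unusedSectionVars false

namespace Cfsg.Agent.SpO.J4.P
open Cfsg.Agent.CG Cfsg.Agent.SpO

theorem Pc0 : allRange (chkBase 2048 16 (appT tabs t62 0xffff) 0 (inv 0)) 0 2048 = true := by decide +kernel
theorem Pc1 : allRange (chkBase 2048 16 (appT tabs t62 0xffff) 1 (inv 1)) 0 2048 = true := by decide +kernel
theorem Pc2 : allRange (chkBase 2048 16 (appT tabs t62 0xffff) 2 (inv 2)) 0 2048 = true := by decide +kernel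
theorem Pc3 : allRange (chkBase 2048 16 (appT tabs t62 0xffff) 3 (inv 3)) 0 2048 = true := by decide +kernel
theorem Pc4 : allRange (chkBase 2048 16 (appT tabs t62 0xffff) 4 (inv 4)) 0 2048 = true := by decide +kernel
theorem Pc5 : allRange (chkBase 2048 16 (appT tabs t62 0xffff) 5 (inv 5)) 0 2048 = true := by decide +kernel
theorem Pc6 : chkDef 16 (appT tabs t62 0xffff) 6 (slp 6) 0 2048 = true := by decide +kernel
theorem Pc7 : chkDef 16 (appT tabs t62 0xffff) 7 (slp 7) 0 2048 = true := by decide +kernel
theorem Pc8 : chkDef 16 (appT tabs t62 0xffff) 8 (slp 8) 0 2048 = true := by decide +kernel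
theorem Pc9 : chkDef 16 (appT tabs t62 0xffff) 9 (slp 9) 0 2048 = true := by decide +kernel
theorem Pc10 : chkDef 16 (appT tabs t62 0xffff) 10 (slp 10) 0 2048 = true := by decide +kernel
theorem Pc11 : chkDef 16 (appT tabs t62 0xffff) 11 (slp 11) 0 2048 = true := by decide +kernel
theorem Pc12 : chkDef 16 (appT tabs t62 0xffff) 12 (slp 12) 0 2048 = true := by decide +kernel
theorem Pc13 : chkDef 16 (appT tabs t62 0xffff) 13 (slp 13) 0 2048 = true := by decide +kernel
theorem Pc14 : chkDef 16 (appT tabs t62 0xffff) 14 (slp 14) 0 2048 = true := by decide +kernel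
theorem Pc15 : chkDef 16 (appT tabs t62 0xffff) 15 (slp 15) 0 2048 = true := by decide +kernel
theorem Pc16 : chkDef 16 (appT tabs t62 0xffff) 16 (slp 16) 0 2048 = true := by decide +kernel
theorem Pc17 : chkDef 16 (appT tabs t62 0xffff) 17 (slp 17) 0 2048 = true := by decide +kernel
theorem Pc18 : chkDef 16 (appT tabs t62 0xffff) 18 (slp 18) 0 2048 = true := by decide +kernel
theorem Pc19 : chkDef 16 (appT tabs t62 0xffff) 19 (slp 19) 0 2048 = true := by decide +kernel
theorem Pc20 : chkDef 16 (appT tabs t62 0xffff) 20 (slp 20) 0 2048 = true := by decide +kernel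
theorem Pc21 : chkDef 16 (appT tabs t62 0xffff) 21 (slp 21) 0 2048 = true := by decide +kernel
theorem Pc22 : chkDef 16 (appT tabs t62 0xffff) 22 (slp 22) 0 2048 = true := by decide +kernel
theorem Pc23 : chkDef 16 (appT tabs t62 0xffff) 23 (slp 23) 0 2048 = true := by decide +kernel
theorem Pc24 : chkDef 16 (appT tabs t62 0xffff) 24 (slp 24) 0 2048 = true := by decide +kernel
theorem Pc25 : chkDef 16 (appT tabs t62 0xffff) 25 (slp 25) 0 2048 = true := by decide +kernel
theorem Pc26 : chkDef 16 (appT tabs t62 0xffff) 26 (slp 26) 0 2048 = true := by decide +kernel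
theorem Pc27 : chkDef 16 (appT tabs t62 0xffff) 27 (slp 27) 0 2048 = true := by decide +kernel
theorem Pc28 : chkDef 16 (appT tabs t62 0xffff) 28 (slp 28) 0 2048 = true := by decide +kernel
theorem Pc29 : chkDef 16 (appT tabs t62 0xffff) 29 (slp 29) 0 2048 = true := by decide +kernel
theorem Pc30 : chkDef 16 (appT tabs t62 0xffff) 30 (slp 30) 0 2048 = true := by decide +kernel
theorem Pc31 : chkDef 16 (appT tabs t62 0xffff) 31 (slp 31) 0 2048 = true := by decide +kernel
theorem Pc32 : chkDef 16 (appT tabs t62 0xffff) 32 (slp 32) 0 2048 = true := by decide +kernel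
theorem Pc33 : chkDef 16 (appT tabs t62 0xffff) 33 (slp 33) 0 2048 = true := by decide +kernel
theorem Pc34 : chkDef 16 (appT tabs t62 0xffff) 34 (slp 34) 0 2048 = true := by decide +kernel
theorem Pc35 : chkDef 16 (appT tabs t62 0xffff) 35 (slp 35) 0 2048 = true := by decide +kernel
theorem Pc36 : chkDef 16 (appT tabs t62 0xffff) 36 (slp 36) 0 2048 = true := by decide +kernel
theorem Pc37 : chkDef 16 (appT tabs t62 0xffff) 37 (slp 37) 0 2048 = true := by decide +kernel
theorem Pc38 : chkDef 16 (appT tabs t62 0xffff) 38 (slp 38) 0 2048 = true := by decide +kernel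
theorem Pc39 : chkDef 16 (appT tabs t62 0xffff) 39 (slp 39) 0 2048 = true := by decide +kernel
theorem Pc40 : chkDef 16 (appT tabs t62 0xffff) 40 (slp 40) 0 2048 = true := by decide +kernel
theorem Pc41 : chkDef 16 (appT tabs t62 0xffff) 41 (slp 41) 0 2048 = true := by decide +kernel
theorem Pc42 : chkDef 16 (appT tabs t62 0xffff) 42 (slp 42) 0 2048 = true := by decide +kernel
theorem Pc43 : chkDef 16 (appT tabs t62 0xffff) 43 (slp 43) 0 2048 = true := by decide +kernel
theorem Pc44 : chkDef 16 (appT tabs t62 0xffff) 44 (slp 44) 0 2048 = true := by decide +kernel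
theorem Pc45 : chkDef 16 (appT tabs t62 0xffff) 45 (slp 45) 0 2048 = true := by decide +kernel
theorem Pc46 : chkDef 16 (appT tabs t62 0xffff) 46 (slp 46) 0 2048 = true := by decide +kernel
theorem Pc47 : chkDef 16 (appT tabs t62 0xffff) 47 (slp 47) 0 2048 = true := by decide +kernel
theorem Pc48 : chkDef 16 (appT tabs t62 0xffff) 48 (slp 48) 0 2048 = true := by decide +kernel
theorem Pc49 : chkDef 16 (appT tabs t62 0xffff) 49 (slp 49) 0 2048 = true := by decide +kernel
theorem Pc50 : chkDef 16 (appT tabs t62 0xffff) 50 (slp 50) 0 2048 = true := by decide +kernel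
theorem Pc51 : chkDef 16 (appT tabs t62 0xffff) 51 (slp 51) 0 2048 = true := by decide +kernel
theorem Pc52 : chkDef 16 (appT tabs t62 0xffff) 52 (slp 52) 0 2048 = true := by decide +kernel
theorem Pc53 : chkDef 16 (appT tabs t62 0xffff) 53 (slp 53) 0 2048 = true := by decide +kernel
theorem Pc54 : chkDef 16 (appT tabs t62 0xffff) 54 (slp 54) 0 2048 = true := by decide +kernel
theorem Pc55 : chkDef 16 (appT tabs t62 0xffff) 55 (slp 55) 0 2048 = true := by decide +kernel
theorem Pc56 : chkDef 16 (appT tabs t62 0xffff) 56 (slp 56) 0 2048 = true := by decide +kernel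
theorem Pc57 : chkDef 16 (appT tabs t62 0xffff) 57 (slp 57) 0 2048 = true := by decide +kernel
theorem Pc58 : chkDef 16 (appT tabs t62 0xffff) 58 (slp 58) 0 2048 = true := by decide +kernel
theorem Pc59 : chkDef 16 (appT tabs t62 0xffff) 59 (slp 59) 0 2048 = true := by decide +kernel
theorem Pc60 : chkDef 16 (appT tabs t62 0xffff) 60 (slp 60) 0 2048 = true := by decide +kernel
theorem Pc61 : chkDef 16 (appT tabs t62 0xffff) 61 (slp 61) 0 2048 = true := by decide +kernel
theorem Pc62 : chkDef 16 (appT tabs t62 0xffff) 62 (false, []) 0 2048 = true := by decide +kernel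
theorem Pc63 : mc0.chk (appT tabs t62 0xffff) 1 2047 = true := by decide +kernel
theorem Pc64 : mc1.chk (appT tabs t62 0xffff) 1 1770 = true := by decide +kernel
theorem Pc65 : mc2.chk (appT tabs t62 0xffff) 1 89 = true := by decide +kernel
theorem Pc66 : mc3.chk (appT tabs t62 0xffff) 1 11 = true := by decide +kernel
theorem Pc67 : mc4.chk (appT tabs t62 0xffff) 1 7 = true := by decide +kernel
theorem Pc68 : mc5.chk (appT tabs t62 0xffff) 1 3 = true := by decide +kernel
theorem Pc69 : mc6.chk (appT tabs t62 0xffff) 1 1 = true := by decide +kernel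
theorem Pc70 : mc7.chk (appT tabs t62 0xffff) 1 1 = true := by decide +kernel
theorem Pc71 : okcb 2048 16 (bases mc) = true := by decide +kernel
theorem Pc72 : headAll (appT tabs t62 0xffff) mc [] = true := by decide +kernel

end Cfsg.Agent.SpO.J4.P
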