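import Cfsg.Agent.Lib.SpO.J4.Link
import Cfsg.Agent.Lib.SpO.Two

/-! The Janko group `J₄`: the structure of the stabiliser of a vector. -/

set_option autoImplicit false
set_option maxRecDepth 100000

namespace Cfsg.Agent.SpO.J4
open Cfsg.Agent.CG Cfsg.Agent.DC Cfsg.Agent.TCX Cfsg.Agent.Id

attribute [local irreducible] P.act CG.M24.act CG.M24p.act

/-- The translations. -/
def E : Subgroup PL where
  carrier := {g | ∃ d, ∀ i : Fin 2048, ((g • i : Fin 2048) : ℕ) = i ^^^ d}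
  one_mem' := ⟨0, fun i => by simp⟩
  mul_mem' := by
    rintro g h ⟨d, h1⟩ ⟨d', h2⟩
    exact ⟨d' ^^^ d, fun i => by rw [mul_smul, h1, h2, Nat.xor_assoc]⟩
  inv_mem' := by
    rintro g ⟨d, h⟩
    refine ⟨d, fun i => ?_⟩
    have := h (g⁻¹ • i)
    rw [smul_inv_smul] at this
    rw [this, Nat.xor_xor_cancel_right]

theorem E_val {g : PL} (h : g ∈ E) (i : Fin 2048) : ((g • i : Fin 2048) : ℕ) = i ^^^ (g • (0 : Fin 2048) : Fin 2048) := by
  obtain ⟨d, h⟩ := h
  rw [h, h]; simp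

theorem pl_ext {g h : PL} (e : ∀ i : Fin 2048, ((g • i : Fin 2048) : ℕ) = (h • i : Fin 2048)) : g = h :=
  Subtype.ext (Equiv.ext fun i => Fin.ext (e i))

theorem E_ext {g h : PL} (h1 : g ∈ E) (h2 : h ∈ E) (e : g • (0 : Fin 2048) = h • 0) : g = h :=
  pl_ext fun i => by rw [E_val h1, E_val h2, e]

theorem E_comm {g h : PL} (h1 : g ∈ E) (h2 : h ∈ E) : g * h = h * g := pl_ext fun i => by
  rw [mul_smul, mul_smul, E_val h1, E_val h2 i, E_val h2 (g • i), E_val h1 i, Nat.xor_assoc, Nat.xor_assoc,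
    Nat.xor_comm (g • (0 : Fin 2048) : Fin 2048)]

theorem E_sq {g : PL} (h : g ∈ E) : g * g = 1 := pl_ext fun i => by
  rw [mul_smul, E_val h, E_val h i, Nat.xor_xor_cancel_right, one_smul]

/-- The word of a translation. -/
def bw (d : ℕ) : List ℕ := ((List.range 11).filter fun k => d.testBit k).map (· + 5)

theorem bw_lt {d a : ℕ} (h : a ∈ bw d) : 5 ≤ a ∧ a < 16 := by
  obtain ⟨k, hk, rfl⟩ := List.mem_map.1 h
  have := List.mem_range.1 (List.mem_filter.1 hk).1
  omega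

theorem e_mem {a : ℕ} (h1 : 5 ≤ a) (h2 : a < 16) : P.act.gen a ∈ E := ⟨2 ^ (a - 5), fun i => by
  rw [gen_val]
  exact (beq_iff _ _).1 ((allLt_iff _ _).1 ((allRange_iff _ _ _).1 (show allRange (fun a =>
    allLt (fun i => Nat.beq (P.app a (16 * i) / 16) (i ^^^ 2 ^ (a - 5))) 2048) 5 11 = true by decide +kernel) a h1 h2) i i.2)⟩

theorem bw_mem (d : ℕ) : ev P.act.gen (bw d) ∈ E := ev_mem _ fun _ h => e_mem (bw_lt h).1 (bw_lt h).2

theorem bw_val (d : Fin 2048) : ev P.act.gen (bw d) • (0 : Fin 2048) = d := Fin.ext (by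
  rw [ev_val]
  exact (beq_iff _ _).1 ((allLt_iff _ _).1 (show allLt (fun d => Nat.beq (evp P.app (bw d) 0 / 16) d) 2048 = true by
    decide +kernel) d d.2))

theorem eq_bw {g : PL} (h : g ∈ E) : g = ev P.act.gen (bw (g • (0 : Fin 2048) : Fin 2048)) :=
  E_ext h (bw_mem _) (bw_val _).symm

theorem E_le {K : Subgroup PL} (h : ∀ a, 5 ≤ a → a < 16 → P.act.gen a ∈ K) : E ≤ K := fun _ hg =>
  eq_bw hg ▸ ev_mem _ fun a ha => h a (bw_lt ha).1 (bw_lt ha).2

instance E_normal : E.Normal := by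
  have k : ∀ s < 2, P.act.gen s ∈ Subgroup.normalizer (E : Set PL) := fun s hs =>
    Subgroup.mem_normalizer_fintype (E_le (K := E.comap (MulAut.conj (P.act.gen s)).toMonoidHom) fun a h1 h2 => by
      have := peq ((allRange_iff _ _ _).1 ((allLt_iff _ _).1 (show allLt (fun s => allRange (fun a => eqW P.app P.bs
        [s, a] (bw (nth (nth P.cjT [] s) 0 (a - 5)) ++ [s])) 5 11) 2 = true by decide +kernel) s hs) a h1 h2)
      rw [ev_cons, ev_singleton, ev_append, ev_singleton] at this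
      change P.act.gen s * P.act.gen a * (P.act.gen s)⁻¹ ∈ E
      rw [this, mul_inv_cancel_right]; exact bw_mem _)
  refine Subgroup.normalizer_eq_top_iff.1 ((Subgroup.eq_top_iff' _).2 (pl_mem (all_cons (k 0 (by norm_num))
    (all_cons (k 1 (by norm_num)) (all_cons ?_ (all_cons (E.le_normalizer (e_mem le_rfl (by norm_num))) all_nil))))))
  have : P.act.gen 2 * P.act.gen 1 = 1 := by simpa using peq (v := [2, 1]) (w := []) (by decide +kernel)
  rw [eq_inv_of_mul_eq_one_left this]; exact inv_mem (k 1 (by norm_num))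

theorem card_E : Nat.card E = 2048 := by
  rw [Nat.card_eq_of_bijective (fun g : E => g.1 • (0 : Fin 2048))
    ⟨fun g h e => Subtype.ext (E_ext g.2 h.2 e), fun d => ⟨⟨_, bw_mem d⟩, bw_val d⟩⟩]; simp

theorem E_two : IsPGroup 2 E := fun g => ⟨1, Subtype.ext (by simpa [sq] using E_sq g.2)⟩

theorem same {v w : List ℕ} {d : ℕ} (h : eqW P.app P.bs v (bw d ++ w) = true) :
    ev P.act.gen v * (ev P.act.gen w)⁻¹ ∈ E := by
  rw [peq h, ev_append, mul_inv_cancel_right]; exact bw_mem d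

abbrev Q : Type := CG.M24.PG

theorem ev_sh (w : List ℕ) : ev (fun a => P.act.gen (a + 18)) w = ev P.act.gen (w.map (· + 18)) := by
  simp [ev, Function.comp_def]

theorem exθ : ∃ θ : Q →* PL, ∀ a ∈ [0, 1, 2], θ (CG.M24.act.gen a) = P.act.gen (a + 18) := by
  obtain ⟨θ, h1⟩ := CG.M24p.bounds.lift CG.M24p.rels CG.M24p.clS CG.M24p.card.ge (fun a => P.act.gen (a + 18))
    fun v hv => (ev_sh v).trans (peq ((allL_iff _ _).1 (show allL (fun v => eqW P.app P.bs (v.map (· + 18)) [])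
      CG.M24p.tcR = true by decide +kernel) v hv))
  obtain ⟨ι, h2⟩ := CG.M24p.bounds.lift CG.M24p.rels CG.M24p.clS CG.M24p.card.ge CG.M24.act.gen
    fun v hv => qeq ((allL_iff _ _).1 (show allL (fun v => eqW CG.M24.app CG.M24.bs v []) CG.M24p.tcR = true by
      decide +kernel) v hv)
  have h3 : Function.Bijective ι := (Nat.bijective_iff_surjective_and_card ι).2
    ⟨mem_cl q_top (MonoidHom.id _) (K := ι.range) fun a ha => ⟨_, h2 a ha⟩,
      CG.M24p.card.trans CG.M24.card.symm⟩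
  exact ⟨θ.comp (MulEquiv.ofBijective ι h3).symm.toMonoidHom, fun a ha => by
    rw [← h2 a ha, ← h1 a ha]; exact congrArg θ ((MulEquiv.ofBijective ι h3).symm_apply_apply _)⟩

/-- The stabiliser of the first point. -/
noncomputable def θ : Q →* PL := exθ.choose

theorem θw {w : List ℕ} (h : ltAll 3 w = true) : θ (ev CG.M24.act.gen w) = ev P.act.gen (w.map (· + 18)) := by
  rw [map_ev, ← ev_sh]
  exact ev_congr _ fun a ha => exθ.choose_spec a ((show ∀ a < 3, a ∈ [0, 1, 2] by decide) a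
    ((blt_iff _ _).1 ((allL_iff _ _).1 h a ha)))

attribute [irreducible] θ

theorem θl {a : ℕ} (h : ltAll 3 [a] = true) : θ (CG.M24.act.gen a) = P.act.gen (a + 18) := by simpa using θw h

theorem fix0 {w : List ℕ} (h : Nat.beq (evp P.app w 0) 0 = true) : ev P.act.gen w • (0 : Fin 2048) = 0 :=
  by rw [ev0, (beq_iff _ _).1 h, pt0]

theorem θ_fix (m : Q) : θ m • (0 : Fin 2048) = 0 :=
  mem_cl q_top θ (K := MulAction.stabilizer PL (0 : Fin 2048)) (fun a ha => by
    have := (show ∀ a ∈ List.range 3, ltAll 3 [a] = true ∧ Nat.beq (evp P.app [a + 18] 0) 0 = true by decide +kernel) a ha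
    exact (congrArg (· • (0 : Fin 2048)) ((θl this.1).trans (ev_singleton _ _).symm)).trans (fix0 this.2)) m

theorem ψ_bij : Function.Bijective ((QuotientGroup.mk' E).comp θ) := by
  refine (Nat.bijective_iff_surjective_and_card _).2 ⟨fun x => ?_, ?_⟩
  · obtain ⟨g, rfl⟩ := QuotientGroup.mk'_surjective E x
    have k : ∀ a < 3, P.act.gen a ∈ ((QuotientGroup.mk' E).comp θ).range.comap (QuotientGroup.mk' E) := fun a ha => by
      have := (show ∀ a < 3, ltAll 3 [a] = true ∧ eqW P.app P.bs [a + 18]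
        (bw (evp P.app [a + 18, P.inv a] 0 / 16) ++ [a]) = true by decide +kernel) a ha
      refine ⟨CG.M24.act.gen a, ?_⟩
      rw [MonoidHom.comp_apply, θl this.1, ← mul_inv_eq_one, ← map_inv, ← map_mul]
      exact (QuotientGroup.eq_one_iff _).2 (by simpa using same this.2)
    exact pl_mem (all_cons (k 0 (by norm_num)) (all_cons (k 1 (by norm_num)) (all_cons (k 2 (by norm_num))
      (all_cons ⟨1, (map_one _).trans ((QuotientGroup.eq_one_iff _).2 (e_mem le_rfl (by norm_num))).symm⟩ all_nil)))) g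
  · have := Subgroup.card_eq_card_quotient_mul_card_subgroup E
    rw [card_E, card_PL] at this
    rw [CG.M24.card]; omega

/-- The projection onto the Mathieu group. -/
noncomputable def π : PL →* Q := (MulEquiv.ofBijective _ ψ_bij).symm.toMonoidHom.comp (QuotientGroup.mk' E)

theorem πθ (m : Q) : π (θ m) = m := (MulEquiv.ofBijective _ ψ_bij).symm_apply_apply m

theorem π_one {g : PL} : π g = 1 ↔ g ∈ E :=
  ((MulEquiv.ofBijective _ ψ_bij).symm.map_eq_one_iff).trans (QuotientGroup.eq_one_iff _)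

attribute [irreducible] π

theorem π_eq {g h : PL} (e : π g = π h) : ∃ ε ∈ E, g = ε * h :=
  ⟨g * h⁻¹, π_one.1 (by rw [map_mul, map_inv, e, mul_inv_cancel]), (inv_mul_cancel_right _ _).symm⟩

theorem comm_of {ε g h : PL} (hε : ε ∈ E) (e : π g = π h) (c : h * ε = ε * h) : g * ε = ε * g := by
  obtain ⟨δ, h1, rfl⟩ := π_eq e
  rw [mul_assoc, c, ← mul_assoc, E_comm h1 hε, mul_assoc]

theorem comm_fix {ε g : PL} (c : g * ε = ε * g) (h : g • (0 : Fin 2048) = 0) :
    g • ε • (0 : Fin 2048) = ε • 0 := by rw [← mul_smul, c, mul_smul, h]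

theorem card_drop {G X : Type*} [Group G] [MulAction G X] [Finite G] {A : Act G X} (n : ℕ) : ∀ {L : List Lvl}
    {F : List ℕ}, ChainOK A L F → Nat.card ↥(⊤ ⊓ A.fix F : Subgroup G) ≤ prodN L →
    Nat.card ↥(⊤ ⊓ A.fix ((bases (L.take n)).reverse ++ F) : Subgroup G) ≤ prodN (L.drop n) := by
  induction n with
  | zero => exact fun _ h => h
  | succ n ih =>
    rintro (_ | ⟨l, L⟩) F h hc
    · exact hc
    have h1 := h.1.le_card_orbit (K := ⊤) (fun _ _ => Subgroup.mem_top _)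
    rw [card_fix_cons ⊤ F l.b] at hc
    have := ih h.2 (Nat.le_of_mul_le_mul_left ((Nat.mul_le_mul_right _ h1).trans hc) h.1.N_pos)
    simpa [bases] using this

theorem card_fix (n : ℕ) :
    Nat.card ↥(⊤ ⊓ P.act.fix ((bases (P.mc.take n)).reverse ++ []) : Subgroup PL) ≤ prodN (P.mc.drop n) :=
  card_drop n P.chain (by rw [P.act.fix_nil, inf_idem, Subgroup.card_top]; exact card_le)

theorem card_C : Nat.card ↥(E ⊓ Subgroup.centralizer {P.act.gen 21}) ≤ 128 := by
  have : ∀ g : ↥(E ⊓ Subgroup.centralizer {P.act.gen 21}), ∃ i : Fin P.f128.length,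
      g.1 • (0 : Fin 2048) = P.act.pt (P.f128.get i) := fun g => by
    obtain ⟨x, h1, h2⟩ := fixm (S := [21]) (F := P.f128) (by decide +kernel) (i := g.1 • 0) (all_cons (comm_fix
      (g.2.2 _ rfl) (by simpa using fix0 (w := [21]) (by decide +kernel))) all_nil)
    obtain ⟨i, rfl⟩ := List.get_of_mem h1
    exact ⟨i, h2⟩
  choose F hF using this
  exact (Nat.card_le_card_of_injective F fun g h e => Subtype.ext (E_ext g.2.1 h.2.1 (by rw [hF, hF, e]))).trans_eq
    ((Nat.card_eq_fintype_card.trans (Fintype.card_fin _)).trans (by decide +kernel))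

theorem exists_cent {G : Type*} [Group G] [Finite G] {p : ℕ} [Fact p.Prime] {S B : Subgroup G} (hS : IsPGroup p S)
    (hB : IsPGroup p B) (h1 : B ≠ ⊥) (hn : ∀ s ∈ S, ∀ b ∈ B, s * b * s⁻¹ ∈ B) :
    ∃ b ∈ B, b ≠ 1 ∧ b ∈ Subgroup.centralizer (S : Set G) := by
  let _ : MulAction S B :=
    { smul := fun s b => ⟨s * b * s⁻¹, hn _ s.2 _ b.2⟩
      one_smul := fun b => Subtype.ext (by change ((1 : S) : G) * b * _ = b; simp)
      mul_smul := fun s s' b => Subtype.ext (by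
        change ((s * s' : S) : G) * b * ((s * s' : S) : G)⁻¹ = s * (s' * b * (s' : G)⁻¹) * (s : G)⁻¹
        simp [mul_assoc]) }
  obtain ⟨b, h2, h3⟩ := hS.exists_fixed_point_of_prime_dvd_card_of_fixed_point B
    ((hB.card_eq_or_dvd).resolve_left fun e => h1 (Subgroup.card_eq_one.1 e)) (a := 1) fun s => Subtype.ext (by
      change (s : G) * 1 * _ = 1; simp)
  exact ⟨b, b.2, fun e => h3 (Subtype.ext e.symm), fun s hs => mul_inv_eq_iff_eq_mul.1 (congrArg Subtype.val (h2 ⟨s, hs⟩))⟩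

/-- A Sylow subgroup of the Mathieu group. -/
noncomputable abbrev S2 : Subgroup Q := cl CG.M24.act.gen CG.M24.pS

theorem S2_two : IsPGroup 2 S2 := IsPGroup.of_card CG.M24.cardP

theorem uniqE {B : Subgroup PL} (h2 : IsPGroup 2 B) (hc : ∀ a ∈ B, ∀ b ∈ B, a * b = b * a)
    (hn : ∀ s, π s ∈ S2 → ∀ a ∈ B, s * a * s⁻¹ ∈ B) (hB : 2048 ≤ Nat.card B) : B ≤ E := by
  by_contra h0
  obtain ⟨_, ⟨a, ha, rfl⟩, h3, h4⟩ := exists_cent S2_two (h2.map π)
    (fun e => h0 fun x hx => π_one.1 (Subgroup.mem_bot.1 (e ▸ Subgroup.mem_map_of_mem π hx))) (by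
      rintro s hs _ ⟨b, hb, rfl⟩
      exact ⟨_, hn (θ s) (by rwa [πθ]) b hb, by simp [πθ]⟩)
  obtain ⟨φ, h5, h6⟩ := CG.M24.centP _ h4
  have h7 : π a = π (P.act.gen 21) := by
    rcases (show ∀ φ ∈ CG.M24.pF, φ = [] ∨ eqW CG.M24.app CG.M24.bs φ P.zw = true by decide +kernel) φ h5 with rfl | h
    · exact absurd h6 h3
    · rw [h6, qeq h, ← πθ (ev _ _), θw (by decide +kernel), peq (w := [21]) (by decide +kernel), ev_singleton]
  have h8 := (π.ker.subgroupOf B).card_mul_index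
  rw [show (π.ker.subgroupOf B).index = Nat.card (B.map π) from Subgroup.relIndex_ker _ π,
    ← Subgroup.card_map_of_injective B.subtype_injective, Subgroup.subgroupOf_map_subtype,
    show π.ker = E from Subgroup.ext fun _ => π_one] at h8
  have h9 : ∀ F : List ℕ, (∀ x ∈ F, ∃ ε ∈ E ⊓ B, ε • (0 : Fin 2048) = P.act.pt x) →
      Nat.card (B.map π) ≤ Nat.card ↥(⊤ ⊓ P.act.fix F : Subgroup PL) := fun F hF => by
    rw [← Subgroup.card_map_of_injective (Function.LeftInverse.injective πθ)]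
    refine Subgroup.card_le_of_le ?_
    rintro _ ⟨_, ⟨b, hb, rfl⟩, rfl⟩
    refine ⟨trivial, fun x hx => ?_⟩
    obtain ⟨ε, h1, e⟩ := hF x hx
    exact e ▸ comm_fix (comm_of h1.1 (πθ _) (hc _ hb _ h1.2)) (θ_fix _)
  have k1 : E ⊓ B ≤ E ⊓ Subgroup.centralizer {P.act.gen 21} := fun ε h =>
    ⟨h.1, fun _ e => e ▸ comm_of h.1 h7.symm (hc _ ha _ h.2)⟩
  have k2 : ∀ x ∈ (bases (P.mc.take 5)).reverse ++ [], ∃ ε ∈ E ⊓ B, ε • (0 : Fin 2048) = P.act.pt x := fun x hx => by
    obtain ⟨c, -, e⟩ := (show ∀ x ∈ (bases (P.mc.take 5)).reverse ++ [], ∃ c ∈ 0 :: P.pc,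
      evp P.app (21 :: bw c ++ 21 :: bw c) 0 = x by decide +kernel) x hx
    obtain ⟨δ, h1, rfl⟩ := π_eq h7
    have z2 : P.act.gen 21 * P.act.gen 21 = 1 := by simpa using peq (v := [21, 21]) (w := []) (by decide +kernel)
    have e2 : ev P.act.gen (21 :: bw c ++ 21 :: bw c) = δ * P.act.gen 21 * ev P.act.gen (bw c) * (δ * P.act.gen 21)⁻¹ *
        (ev P.act.gen (bw c))⁻¹ := by
      rw [ev_append, ev_cons, inv_eq_of_mul_eq_one_right (E_sq (bw_mem c)), ← mul_assoc]
      congr 1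
      rw [mul_inv_rev, ← mul_assoc, mul_assoc δ, mul_assoc δ, E_comm h1 (E_normal.conj_mem _ (bw_mem c) _),
        mul_inv_cancel_right, inv_eq_of_mul_eq_one_right z2]
    refine ⟨ev P.act.gen (21 :: bw c ++ 21 :: bw c), ?_, by rw [ev0, e]⟩
    rw [e2]
    refine Subgroup.mem_inf.2 ⟨E.mul_mem (E_normal.conj_mem _ (bw_mem c) _) (E.inv_mem (bw_mem c)), ?_⟩
    rw [mul_assoc, mul_assoc, ← mul_assoc (ev _ _)]
    exact mul_mem ha (hn _ (by rw [π_one.2 (bw_mem c)]; exact one_mem _) _ (inv_mem ha))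
  have k3 := (h9 _ k2).trans ((card_fix 5).trans_eq (show _ = 16 by decide +kernel))
  have k4 := card_C
  have k5 := Subgroup.eq_of_le_of_card_ge k1 (k4.trans (by nlinarith))
  have k6 := (h9 _ fun x hx => by
    rcases (show ∀ x ∈ (bases (P.mc.take 7)).reverse ++ [], x ∈ (bases (P.mc.take 5)).reverse ++ [] ∨
      (evp P.app (bw (x / 16)) 0 = x ∧ eqW P.app P.bs (21 :: bw (x / 16)) (bw (x / 16) ++ [21]) = true) by
        decide +kernel) x hx with h | ⟨h, h'⟩
    · exact k2 x h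
    · exact ⟨_, k5.ge ⟨bw_mem (x / 16), fun _ e => by rw [Set.mem_singleton_iff.1 e]; simpa using peq h'⟩,
        by rw [ev0, h]⟩).trans ((card_fix 7).trans_eq (show _ = 2 by decide +kernel))
  rw [← k5] at k4
  nlinarith

end Cfsg.Agent.SpO.J4
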